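import Mathlib.Algebra.Homology.DerivedCategory.Ext.Linear
import Mathlib.Algebra.Homology.DerivedCategory.Ext.ExactSequences
import Mathlib.LinearAlgebra.Isomorphisms
import Mathlib.CategoryTheory.Preadditive.Biproducts

/-!
# Dimension shifting for `Ext` in a linear abelian category
-/

universe w t v u

open CategoryTheory Limits Abelian

set_option autoImplicit false

noncomputable section

namespace Groth.Agent.PDual19

variable {C : Type u} [Category.{v} C] [Abelian C] [HasExt.{w} C]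

/-- `Ext` out of a finite coproduct vanishes if it vanishes on the summands. -/
theorem subsingleton_ext_sigma {b : ℕ} (M : Fin b → C) (Y : C) (p : ℕ)
    (h : ∀ l, Subsingleton (Ext (M l) Y p)) : Subsingleton (Ext (∐ M) Y p) := by
  classical
  let prj : ∀ l, ∐ M ⟶ M l := fun l =>
    Sigma.desc fun l' => if h : l' = l then eqToHom (congrArg M h) else 0
  have htot : ∑ l, prj l ≫ Sigma.ι M l = 𝟙 (∐ M) := Sigma.hom_ext _ _ fun l' => by
    rw [Preadditive.comp_sum, Category.comp_id, Finset.sum_eq_single l']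
    · simp [prj]
    · intro l _ hl
      simp [prj, Ne.symm hl]
    · simp
  refine subsingleton_of_forall_eq 0 fun x => ?_
  let f : (∐ M ⟶ ∐ M) →+ Ext (∐ M) Y p := AddMonoidHom.mk' (fun φ => (Ext.mk₀ φ).comp x (zero_add p))
    fun φ ψ => by rw [Ext.mk₀_add, Ext.add_comp]
  calc x = f (𝟙 _) := (Ext.mk₀_id_comp x).symm
    _ = ∑ l, f (prj l ≫ Sigma.ι M l) := by rw [← htot, map_sum]
    _ = 0 := Finset.sum_eq_zero fun l _ => by
      change (Ext.mk₀ (prj l ≫ Sigma.ι M l)).comp x (zero_add p) = 0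
      rw [← Ext.mk₀_comp_mk₀_assoc (prj l) (Sigma.ι M l) x,
        (h l).elim ((Ext.mk₀ (Sigma.ι M l)).comp x (zero_add p)) 0, Ext.comp_zero]

variable (R : Type t) [CommRing R] [Linear R C] {S : ShortComplex C} (hS : S.ShortExact) (Y : C)

/-- The connecting map of the contravariant long exact sequence. -/
abbrev extδ {a b : ℕ} (h : 1 + a = b) : Ext S.X₁ Y a →ₗ[R] Ext S.X₃ Y b :=
  hS.extClass.precompOfLinear R Y h

theorem extδ_apply {a b : ℕ} (h : 1 + a = b) (x : Ext S.X₁ Y a) :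
    extδ R hS Y h x = hS.extClass.comp x h := rfl

theorem surjective_extδ {a b : ℕ} (h : 1 + a = b) [Subsingleton (Ext S.X₂ Y b)] :
    Function.Surjective (extδ R hS Y h) :=
  fun x => Ext.contravariant_sequence_exact₃ hS Y x (Subsingleton.elim _ _) h

theorem injective_extδ {a b : ℕ} (h : 1 + a = b) [Subsingleton (Ext S.X₂ Y a)] :
    Function.Injective (extδ R hS Y h) := by
  rw [← LinearMap.ker_eq_bot, Submodule.eq_bot_iff]
  intro x hx
  obtain ⟨y, rfl⟩ := Ext.contravariant_sequence_exact₁ hS Y x h hx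
  rw [Subsingleton.elim y 0, Ext.comp_zero]

theorem extδ_mk₀_eq_zero_iff (φ : S.X₁ ⟶ Y) :
    extδ R hS Y (show 1 + 0 = 1 from rfl) (Ext.mk₀ φ) = 0 ↔ ∃ ψ : S.X₂ ⟶ Y, S.f ≫ ψ = φ := by
  constructor
  · intro hx
    obtain ⟨y, hy⟩ := Ext.contravariant_sequence_exact₁ hS Y (Ext.mk₀ φ) rfl hx
    obtain ⟨ψ, rfl⟩ := Ext.addEquiv₀.symm.surjective y
    refine ⟨ψ, Ext.addEquiv₀.symm.injective ?_⟩
    exact (Ext.mk₀_comp_mk₀ S.f ψ).symm.trans hy
  · rintro ⟨ψ, rfl⟩
    rw [extδ_apply, ← Ext.mk₀_comp_mk₀]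
    exact hS.extClass_comp_assoc _

/-- Two surjective linear maps out of the same module with the same kernel have isomorphic targets. -/
theorem nonempty_equiv_of_ker_eq {M P Q : Type*} [AddCommGroup M] [AddCommGroup P] [AddCommGroup Q]
    [Module R M] [Module R P] [Module R Q] (f : M →ₗ[R] P) (g : M →ₗ[R] Q) (hf : Function.Surjective f)
    (hg : Function.Surjective g) (h : ∀ x, f x = 0 ↔ g x = 0) : Nonempty (P ≃ₗ[R] Q) :=
  ⟨(f.quotKerEquivOfSurjective hf).symm.trans
    ((Submodule.quotEquivOfEq _ _ (Submodule.ext h)).trans (g.quotKerEquivOfSurjective hg))⟩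

end Groth.Agent.PDual19
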