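import Groth.Agent.PDual19.EnoughX
import Groth.Agent.EGA4Alg4.Depth

/-!
# Depth and dimension at closed points of closed subschemes of projective space
-/

universe u

open CategoryTheory Limits AlgebraicGeometry Opposite

set_option autoImplicit false
set_option maxSynthPendingDepth 6
set_option maxHeartbeats 1000000
set_option synthInstance.maxHeartbeats 800000
set_option backward.isDefEq.respectTransparency.types false

noncomputable section

namespace Groth.Agent.PDual19

theorem depth_unit_stalk {X : Scheme.{u}} (z : X) :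
    LocCoh.depth (X.presheaf.stalk z) ((Coh.structureModule X).presheaf.stalk z) =
      LocCoh.depth (X.presheaf.stalk z) (X.presheaf.stalk z) := by
  obtain ⟨U, hzU, ⟨e⟩⟩ := Mero90.isFinLocFreeOfRank_of_isInvertible
    (EGA73.isInvertible_structureModule (X := X)) z
  obtain ⟨s, hs⟩ := Props58.LocFree.exists_stalkBasis_of_iso e
  exact S2854.idealDepth_congr' ((hs.stalkEquiv z hzU).symm.trans
    (LinearEquiv.funUnique (Fin 1) (X.presheaf.stalk z) (X.presheaf.stalk z))) _

theorem depth_eq_of_cm {A : Type u} [CommRing A] [IsLocalRing A] (n : ℕ)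
    (h : LocCoh.IsCohenMacaulayLocalRing A) (hn : ringKrullDim A = n) : LocCoh.depth A A = n := by
  have h1 := h.supportDim_eq_depth
  rw [Module.supportDim_self_eq_ringKrullDim, hn] at h1
  exact (WithBot.coe_inj.mp h1).symm

theorem ringKrullDim_stalk_le {X : Scheme.{u}} (n : ℕ) (hn : topologicalKrullDim X = n) (z : X) :
    ringKrullDim (X.presheaf.stalk z) ≤ n := by
  have h := topologicalKrullDim_subspace_le X (Set.range (X.fromSpecStalk z))
  rw [hn, ← IsHomeomorph.topologicalKrullDim_eq _
    (X.fromSpecStalk z).isEmbedding.toHomeomorph.isHomeomorph] at h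
  exact (PrimeSpectrum.topologicalKrullDim_eq_ringKrullDim _).ge.trans h

theorem cm_of_depth {X : Scheme.{u}} [IsLocallyNoetherian X] (n : ℕ) (hn : topologicalKrullDim X = n) (z : X)
    (hd : (n : ℕ∞) ≤ LocCoh.depth (X.presheaf.stalk z) (X.presheaf.stalk z)) :
    LocCoh.IsCohenMacaulayLocalRing (X.presheaf.stalk z) ∧ ringKrullDim (X.presheaf.stalk z) = n := by
  have hle := ringKrullDim_stalk_le n hn z
  have hds : ((LocCoh.depth (X.presheaf.stalk z) (X.presheaf.stalk z) : ℕ∞) : WithBot ℕ∞) ≤
      Module.supportDim (X.presheaf.stalk z) (X.presheaf.stalk z) := EGA4Alg4.depth_le_supportDim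
  rw [Module.supportDim_self_eq_ringKrullDim] at hds
  have hge : (n : WithBot ℕ∞) ≤ ((LocCoh.depth (X.presheaf.stalk z) (X.presheaf.stalk z) : ℕ∞) : WithBot ℕ∞) :=
    WithBot.coe_le_coe.mpr hd
  have heq : ringKrullDim (X.presheaf.stalk z) = n := le_antisymm hle (hge.trans hds)
  refine ⟨{ supportDim_eq_depth := ?_ }, heq⟩
  rw [Module.supportDim_self_eq_ringKrullDim]
  exact le_antisymm (heq.le.trans hge) hds

theorem dim_stalk_of_equidim {k : Type u} [Field k] {X : Scheme.{u}} (g : X ⟶ Spec (CommRingCat.of k))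
    [LocallyOfFiniteType g] (n : ℕ) (hn : topologicalKrullDim X = n)
    (heq : ∀ Z : Set ↥X, Z ∈ irreducibleComponents ↥X → topologicalKrullDim ↥Z = (n : WithBot ℕ∞))
    {z : X} (hz : IsClosed ({z} : Set X)) : ringKrullDim (X.presheaf.stalk z) = n := by
  refine le_antisymm (ringKrullDim_stalk_le n hn z) ?_
  obtain ⟨N, M, hN, hM, hNM⟩ := LC16.ExtCodim.natCast_le_dim_stalk g n heq z
  rw [hz.closure_eq] at hN
  have h0 : (N : WithBot ℕ∞) ≤ 0 := by
    rw [← hN]
    exact topologicalKrullDim_zero_of_discreteTopology _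
  have : N = 0 := by exact_mod_cast le_antisymm h0 (by positivity)
  exact le_trans (by exact_mod_cast (by omega : n ≤ M)) hM

end Groth.Agent.PDual19
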