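import Mathlib.Topology.KrullDimension
import Mathlib.Topology.Irreducible
import Mathlib.Topology.Sober

/-!
# The dimension is bounded by the dimensions of the components
-/

open TopologicalSpace

set_option autoImplicit false

namespace Groth.Agent.PDual19

/-- A chain of irreducible closed sets inside `Z` bounds the dimension of `Z` from below. -/
theorem length_le_dim_of_subset {T : Type*} [TopologicalSpace T] (Z : Set T) (p : LTSeries (IrreducibleCloseds T))
    (hsub' : ∀ i, (p i : Set T) ⊆ Z) : (p.length : WithBot ℕ∞) ≤ topologicalKrullDim ↥Z := by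
  have hirr : ∀ A : IrreducibleCloseds T, (A : Set T) ⊆ Z → IsIrreducible (Subtype.val ⁻¹' (A : Set T) : Set ↥Z) := by
    intro A hA
    obtain ⟨x, hx⟩ := A.isIrreducible.nonempty
    refine ⟨⟨⟨x, hA hx⟩, hx⟩, ?_⟩
    rintro _ _ ⟨U, hU, rfl⟩ ⟨V, hV, rfl⟩ ⟨a, ha, haU⟩ ⟨b, hb, hbV⟩
    obtain ⟨c, hc, hcU, hcV⟩ := A.isIrreducible.2 U V hU hV ⟨a.1, ha, haU⟩ ⟨b.1, hb, hbV⟩
    exact ⟨⟨c, hA hc⟩, hc, hcU, hcV⟩
  let f : Fin (p.length + 1) → IrreducibleCloseds ↥Z := fun i =>
    ⟨Subtype.val ⁻¹' (p i : Set T), hirr (p i) (hsub' i), (p i).isClosed.preimage continuous_subtype_val⟩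
  have hf : StrictMono f := fun i j hij => by
    have hlt : (p i : Set T) < (p j : Set T) := p.strictMono hij
    have hle : f i ≤ f j := fun x (hx : x.1 ∈ (p i : Set T)) => hlt.le hx
    refine lt_of_le_of_ne hle fun he => hlt.ne ?_
    have he' : (Subtype.val ⁻¹' (p i : Set T) : Set ↥Z) = Subtype.val ⁻¹' (p j : Set T) := congrArg SetLike.coe he
    exact Set.Subset.antisymm hlt.le fun x hx =>
      ((Set.ext_iff.mp he' ⟨x, hsub' j hx⟩).mpr hx)
  exact Order.LTSeries.length_le_krullDim (LTSeries.mk p.length f hf)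

theorem topologicalKrullDim_le_of_components {T : Type*} [TopologicalSpace T] (d : WithBot ℕ∞)
    (h : ∀ Z : Set T, Z ∈ irreducibleComponents T → topologicalKrullDim ↥Z ≤ d) : topologicalKrullDim T ≤ d := by
  refine iSup_le fun p => ?_
  obtain ⟨Z, hZ, hsub⟩ := exists_mem_irreducibleComponents_subset_of_isIrreducible _ p.last.isIrreducible
  exact (length_le_dim_of_subset Z p fun i =>
    Set.Subset.trans (show (p i : Set T) ⊆ (p.last : Set T) from p.monotone (Fin.le_last i)) hsub).trans (h Z hZ)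

/-- A closed set missing every generic point of a component has smaller dimension. -/
theorem length_lt_of_generic_notMem {T : Type*} [TopologicalSpace T] [QuasiSober T] {Z : Set T} (hZ : IsClosed Z) (r : ℕ)
    (h : ∀ Y : Set T, Y ∈ irreducibleComponents T → topologicalKrullDim ↥Y ≤ (r : WithBot ℕ∞))
    (hg : ∀ x : T, closure ({x} : Set T) ∈ irreducibleComponents T → x ∉ Z)
    (p : LTSeries (IrreducibleCloseds ↥Z)) : p.length + 1 ≤ r := by
  let img : IrreducibleCloseds ↥Z → IrreducibleCloseds T := fun A =>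
    ⟨Subtype.val '' (A : Set ↥Z), A.isIrreducible.image _ continuous_subtype_val.continuousOn,
      hZ.isClosedMap_subtype_val _ A.isClosed⟩
  have himg : StrictMono img := fun A B hAB => by
    have h1 : (A : Set ↥Z) ⊂ B := hAB
    have hle : img A ≤ img B := (Set.image_mono h1.subset : (img A : Set T) ⊆ img B)
    exact lt_of_le_of_ne hle fun e => h1.ne (Set.image_injective.mpr Subtype.val_injective (congrArg SetLike.coe e))
  let q : LTSeries (IrreducibleCloseds T) := p.map img himg
  have hqZ : (q.last : Set T) ⊆ Z := by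
    simp only [q, LTSeries.last_map]
    exact Subtype.coe_image_subset _ _
  obtain ⟨Y, hY, hsub⟩ := exists_mem_irreducibleComponents_subset_of_isIrreducible _ q.last.isIrreducible
  have hYirr : IsIrreducible Y := hY.1
  have hYc : IsClosed Y := isClosed_of_mem_irreducibleComponents Y hY
  let Y' : IrreducibleCloseds T := ⟨Y, hYirr, hYc⟩
  have hne : q.last ≠ Y' := fun e => by
    have hcl : closure ({hYirr.genericPoint} : Set T) = Y := hYirr.closure_genericPoint hYc
    refine hg hYirr.genericPoint (by rw [hcl]; exact hY) (hqZ ?_)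
    rw [e]
    exact hcl.le (subset_closure (Set.mem_singleton _))
  have hlt : q.last < Y' := lt_of_le_of_ne hsub hne
  let q' : LTSeries (IrreducibleCloseds T) := q.snoc Y' hlt
  have h2 := (length_le_dim_of_subset Y q' fun i =>
    ((LTSeries.monotone q' (Fin.le_last i)).trans (le_of_eq (RelSeries.last_snoc q Y' hlt)) : _)).trans (h Y hY)
  have h3 : ((p.length + 1 : ℕ) : WithBot ℕ∞) ≤ (r : WithBot ℕ∞) := by simpa [q, q'] using h2
  exact_mod_cast h3

theorem eq_empty_of_generic_notMem {T : Type*} [TopologicalSpace T] [QuasiSober T] {Z : Set T} (hZ : IsClosed Z)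
    (h : ∀ Y : Set T, Y ∈ irreducibleComponents T → topologicalKrullDim ↥Y ≤ ((0 : ℕ) : WithBot ℕ∞))
    (hg : ∀ x : T, closure ({x} : Set T) ∈ irreducibleComponents T → x ∉ Z) : Z = ∅ := by
  refine Set.not_nonempty_iff_eq_empty.mp fun ⟨x, hx⟩ => ?_
  have := length_lt_of_generic_notMem hZ 0 h hg
    (RelSeries.singleton _ ⟨closure {⟨x, hx⟩}, isIrreducible_singleton.closure, isClosed_closure⟩)
  omega

theorem dim_le_of_generic_notMem {T : Type*} [TopologicalSpace T] [QuasiSober T] {Z : Set T} (hZ : IsClosed Z) (d : ℕ)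
    (h : ∀ Y : Set T, Y ∈ irreducibleComponents T → topologicalKrullDim ↥Y ≤ ((d + 1 : ℕ) : WithBot ℕ∞))
    (hg : ∀ x : T, closure ({x} : Set T) ∈ irreducibleComponents T → x ∉ Z) :
    topologicalKrullDim ↥Z ≤ (d : WithBot ℕ∞) :=
  iSup_le fun p => by
    have := length_lt_of_generic_notMem hZ (d + 1) h hg p
    exact_mod_cast (show p.length ≤ d by omega)

end Groth.Agent.PDual19
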