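import Groth.Agent.PDual19.ExtAux
import Groth.Agent.SerreD94.Duality
import Groth.Prelude.Def_KLin

/-!
# Duality in every degree from a dualising sheaf and enough acyclic quotients
-/

universe u

open CategoryTheory Limits AlgebraicGeometry Opposite Abelian

set_option autoImplicit false
set_option maxSynthPendingDepth 6
set_option maxHeartbeats 1000000
set_option synthInstance.maxHeartbeats 400000
set_option backward.isDefEq.respectTransparency.types false

noncomputable section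

namespace Groth.Agent.PDual19

variable (k : Type u) [Field k] {X : Scheme.{u}} [X.Over (Spec (CommRingCat.of k))] (n : ℕ)
  (ω : X.Modules) (t : Coh.HH X ω n →ₗ[k] k)

/-- `(ω, t)` is dualising in degree `n`. -/
def IsDualizing : Prop :=
  ∀ F : X.Modules, Coh.IsCoh F → ∀ ψ : Coh.HH X F n →ₗ[k] k,
    ∃! φ : F ⟶ ω, ∀ x : Coh.HH X F n,
      ψ x = t (Sheaf.H.map ((SheafOfModules.toSheaf X.ringCatSheaf).map φ) n x)

/-- Enough quotient presentations by modules with cohomology in the top degree only. -/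
def EnoughTop [HasExt.{u} X.Modules] : Prop :=
  ∀ F : X.Modules, Coh.IsCoh F → ∃ (E : X.Modules) (p : E ⟶ F), Epi p ∧ Coh.IsCoh E ∧
    (∀ q, 0 < q → Subsingleton (Ext E ω q)) ∧ ∀ q, q < n → Subsingleton (Coh.HH X E q)

/-- The pairing of `Hom(F, ω)` with top cohomology. -/
def pairX (F : X.Modules) : (F ⟶ ω) →ₗ[k] Module.Dual k (Coh.HH X F n) where
  toFun φ := t.comp (Crv77.hmap k φ n)
  map_add' φ ψ := LinearMap.ext fun x => by
    simp only [LinearMap.comp_apply, LinearMap.add_apply, SerreD94.hmap_add, map_add]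
  map_smul' a φ := LinearMap.ext fun x => by
    simp only [LinearMap.comp_apply, LinearMap.smul_apply, RingHom.id_apply]
    rw [KLin.smul_def, ← Crv77.hmap_comp, ← map_smul, ← map_smul]
    rfl

theorem bijective_pairX (h : IsDualizing k n ω t) {F : X.Modules} (hF : Coh.IsCoh F) :
    Function.Bijective (pairX k n ω t F) := by
  refine ⟨fun φ ψ e => ?_, fun ψ => ?_⟩
  · exact (h F hF (pairX k n ω t F φ)).unique (fun x => rfl) (fun x => LinearMap.congr_fun e x)
  · obtain ⟨φ, hφ, -⟩ := h F hF ψ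
    exact ⟨φ, LinearMap.ext fun x => (hφ x).symm⟩

theorem pairX_comp {F G : X.Modules} (f : F ⟶ G) (φ : G ⟶ ω) :
    pairX k n ω t F (f ≫ φ) = (Crv77.hmap k f n).dualMap (pairX k n ω t G φ) :=
  LinearMap.ext fun x => congrArg t (Crv77.hmap_comp k f φ n x).symm

variable [HasExt.{u} X.Modules]

include t in
theorem dualityX_one (hd : IsDualizing k n ω t) (j : ℕ) (hj : 1 + j = n) (S : ShortComplex X.Modules)
    (hS : S.ShortExact) (h₁ : Coh.IsCoh S.X₁) (h₂ : Coh.IsCoh S.X₂)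
    (he : Subsingleton (Ext S.X₂ ω 1)) (hh : Subsingleton (Coh.HH X S.X₂ j)) :
    Nonempty (Ext S.X₃ ω 1 ≃ₗ[k] Module.Dual k (Coh.HH X S.X₃ j)) := by
  obtain rfl : n = j + 1 := by omega
  have hδ : Function.Injective (Crv77.hδ k hS j) := (injective_iff_map_eq_zero _).mpr fun x hx => by
    obtain ⟨y, rfl⟩ := (Crv77.exact_g_δ k hS j x).1 hx
    rw [Subsingleton.elim y 0, map_zero]
  let f : (S.X₁ ⟶ ω) →ₗ[k] Ext S.X₃ ω 1 :=
    (extδ k hS ω (show 1 + 0 = 1 from rfl)).comp Ext.linearEquiv₀.symm.toLinearMap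
  let g : (S.X₁ ⟶ ω) →ₗ[k] Module.Dual k (Coh.HH X S.X₃ j) :=
    (Crv77.hδ k hS j).dualMap.comp (pairX k (j + 1) ω t S.X₁)
  refine nonempty_equiv_of_ker_eq k f g
    ((surjective_extδ k hS ω (show 1 + 0 = 1 from rfl)).comp Ext.linearEquiv₀.symm.surjective)
    ((LinearMap.dualMap_surjective_iff.mpr hδ).comp (bijective_pairX k (j + 1) ω t hd h₁).2) fun φ => ?_
  change extδ k hS ω (show 1 + 0 = 1 from rfl) (Ext.linearEquiv₀.symm φ) = 0 ↔ _
  rw [show Ext.linearEquiv₀.symm φ = Ext.mk₀ φ from rfl, extδ_mk₀_eq_zero_iff]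
  constructor
  · rintro ⟨ψ, rfl⟩
    refine LinearMap.ext fun x => ?_
    change pairX k (j + 1) ω t S.X₁ (S.f ≫ ψ) (Crv77.hδ k hS j x) = 0
    rw [pairX_comp, LinearMap.dualMap_apply,
      ((Crv77.exact_δ_f k hS j) (Crv77.hδ k hS j x)).2 ⟨x, rfl⟩, map_zero]
  · intro hg
    have hm : pairX k (j + 1) ω t S.X₁ φ ∈ (Crv77.hmap k S.f (j + 1)).ker.dualAnnihilator := by
      rw [Submodule.mem_dualAnnihilator]
      intro y hy
      obtain ⟨x, rfl⟩ := (Crv77.exact_δ_f k hS j y).1 hy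
      exact LinearMap.congr_fun hg x
    rw [← LinearMap.range_dualMap_eq_dualAnnihilator_ker] at hm
    obtain ⟨ψ', hψ'⟩ := hm
    obtain ⟨ψ, rfl⟩ := (bijective_pairX k (j + 1) ω t hd h₂).2 ψ'
    exact ⟨ψ, (bijective_pairX k (j + 1) ω t hd h₁).1 ((pairX_comp k (j + 1) ω t S.f ψ).trans hψ')⟩

include t in
theorem vanishX_one (hd : IsDualizing k n ω t) (h0 : n = 0) (S : ShortComplex X.Modules)
    (hS : S.ShortExact) (h₁ : Coh.IsCoh S.X₁) (h₂ : Coh.IsCoh S.X₂)
    (he : Subsingleton (Ext S.X₂ ω 1)) : Subsingleton (Ext S.X₃ ω 1) := by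
  subst h0
  refine subsingleton_of_forall_eq 0 fun y => ?_
  obtain ⟨x, rfl⟩ := surjective_extδ k hS ω (show 1 + 0 = 1 from rfl) y
  obtain ⟨φ, rfl⟩ := (Ext.linearEquiv₀ (R := k)).symm.surjective x
  obtain ⟨ψ', hψ'⟩ := LinearMap.dualMap_surjective_iff.mpr (Crv77.injective_f_zero k hS) (pairX k 0 ω t S.X₁ φ)
  obtain ⟨ψ, rfl⟩ := (bijective_pairX k 0 ω t hd h₂).2 ψ'
  exact (extδ_mk₀_eq_zero_iff k hS ω φ).2
    ⟨ψ, (bijective_pairX k 0 ω t hd h₁).1 ((pairX_comp k 0 ω t S.f ψ).trans hψ')⟩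

/-- Duality in every degree. -/
theorem dualityX [IsLocallyNoetherian X] (hd : IsDualizing k n ω t) (hres : EnoughTop n ω) (i : ℕ) : ∀ F : X.Modules, Coh.IsCoh F →
    (∀ j, i + j = n → Nonempty (Ext F ω i ≃ₗ[k] Module.Dual k (Coh.HH X F j))) ∧
      (n < i → Subsingleton (Ext F ω i)) := by
  induction i with
  | zero =>
    exact fun F hF => ⟨fun j hj => by obtain rfl : j = n := by omega
                                      exact ⟨Ext.linearEquiv₀.trans (LinearEquiv.ofBijective _ (bijective_pairX k _ ω t hd hF))⟩,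
      fun h => absurd h (Nat.not_lt_zero n)⟩
  | succ i IH =>
    intro F hF
    obtain ⟨E, p, hp, h₂, he, hh⟩ := hres F hF
    let S : ShortComplex X.Modules := ShortComplex.mk (kernel.ι p) p (kernel.condition p)
    have hS : S.ShortExact := Var76.Reg.KData.kernel_shortExact p
    have h₁ : Coh.IsCoh S.X₁ := QC70.isCoh_kernel p h₂ hF.1
    let eF : S.X₃ ≅ F := Iso.refl _
    suffices H : (∀ j, i + 1 + j = n → Nonempty (Ext S.X₃ ω (i + 1) ≃ₗ[k] Module.Dual k (Coh.HH X S.X₃ j))) ∧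
        (n < i + 1 → Subsingleton (Ext S.X₃ ω (i + 1))) by
      let E : Ext F ω (i + 1) ≃ₗ[k] Ext S.X₃ ω (i + 1) :=
        LinearEquiv.ofLinearMap ((Ext.mk₀ eF.hom).precompOfLinear k ω (zero_add _))
          ((Ext.mk₀ eF.inv).precompOfLinear k ω (zero_add _))
          (LinearMap.ext fun x => by simp) (LinearMap.ext fun x => by simp)
      refine ⟨fun j hj => ?_, fun h => ?_⟩
      · obtain ⟨e⟩ := H.1 j hj
        exact ⟨E.trans (e.trans (Crv77.hEquiv k eF j).symm.dualMap)⟩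
      · exact E.toEquiv.subsingleton_congr.mpr (H.2 h)
    rcases Nat.eq_zero_or_pos i with rfl | hi
    · refine ⟨fun j hj => dualityX_one k n ω t hd j (by omega) S hS h₁ h₂ (he 1 Nat.one_pos) (hh j (by omega)),
        fun h => vanishX_one k n ω t hd (by omega) S hS h₁ h₂ (he 1 Nat.one_pos)⟩
    haveI := he i hi
    haveI := he (i + 1) (Nat.succ_pos i)
    let δ : Ext S.X₁ ω i ≃ₗ[k] Ext S.X₃ ω (i + 1) :=
      LinearEquiv.ofBijective (extδ k hS ω (Nat.add_comm 1 i))
        ⟨injective_extδ k hS ω _, surjective_extδ k hS ω _⟩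
    refine ⟨fun j hj => ?_, fun h => ?_⟩
    · obtain ⟨e⟩ := (IH S.X₁ h₁).1 (j + 1) (by omega)
      haveI := hh j (by omega)
      haveI := hh (j + 1) (by omega)
      have hb : Function.Bijective (Crv77.hδ k hS j) := by
        refine ⟨(injective_iff_map_eq_zero _).mpr fun x hx => ?_, fun y => ?_⟩
        · obtain ⟨z, rfl⟩ := (Crv77.exact_g_δ k hS j x).1 hx
          rw [Subsingleton.elim z 0, map_zero]
        · exact (Crv77.exact_δ_f k hS j y).1 (Subsingleton.elim _ _)
      exact ⟨δ.symm.trans (e.trans (LinearEquiv.ofBijective _ hb).dualMap)⟩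
    · rcases (Nat.lt_succ_iff.mp h).lt_or_eq with h' | rfl
      · haveI := (IH S.X₁ h₁).2 h'
        exact δ.symm.toEquiv.subsingleton
      · obtain ⟨e⟩ := (IH S.X₁ h₁).1 0 (Nat.add_zero n)
        haveI := hh 0 hi
        haveI : Subsingleton (Coh.HH X S.X₁ 0) := (Crv77.injective_f_zero k hS).subsingleton
        exact (δ.symm.trans e).toEquiv.subsingleton

end Groth.Agent.PDual19
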