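import Groth.Agent.PDual19.VanishX
import Groth.Agent.QC70.ClosedHomInj
import Groth.Agent.PDual19.DualityX

/-!
# Enough acyclic quotients on closed subschemes of projective space of maximal depth
-/

universe u

open CategoryTheory Limits AlgebraicGeometry Opposite Abelian

set_option autoImplicit false
set_option maxSynthPendingDepth 6
set_option maxHeartbeats 1000000
set_option synthInstance.maxHeartbeats 800000
set_option backward.isDefEq.respectTransparency.types false

noncomputable section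

namespace Groth.Agent.PDual19

open QC70

variable (k : Type u) [Field k] (N : ℕ) {X : Scheme.{u}} (ι : X ⟶ CohB1.ProjSpace N k) [IsClosedImmersion ι]

theorem isInvertible_OX (d : ℤ) : PicF.IsInvertible (LGlob19.OX k N ι d) :=
  Amp73.isInvertible_pullback ι (Var76.Reg.isInvertible_twist d)

theorem isCoh_OX (d : ℤ) : Coh.IsCoh (LGlob19.OX k N ι d) :=
  haveI := LGlob19.isLocallyNoetherian_sub k N ι
  Amp73.isCoh_of_isInvertible (isInvertible_OX k N ι d)

variable [HasExt.{u} X.Modules]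

theorem exists_ext_OX_vanish [X.Over (Spec (CommRingCat.of k))] {ω : X.Modules} (hω : Coh.IsCoh ω) :
    ∃ c : ℤ, ∀ d : ℤ, d ≤ c → ∀ p : ℕ, 0 < p → Subsingleton (Ext (LGlob19.OX k N ι d) ω p) := by
  obtain ⟨n₀, h⟩ := RB70.exists_vanishing_twist ι ω hω
  refine ⟨-n₀, fun d hd p hp => ?_⟩
  obtain ⟨e₀⟩ := LGlob19.nonempty_OX_inverse k N ι (-d)
  rw [neg_neg] at e₀
  obtain ⟨e⟩ := nonempty_homMod_iso e₀ ω
  obtain ⟨E⟩ := QC70.nonempty_ext_equiv_HH (fun x =>
    (Mero90.isFinLocFreeOfRank_of_isInvertible (isInvertible_OX k N ι d) x).imp fun _ hU => ⟨1, hU⟩) ω p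
  haveI : Subsingleton (Coh.HH X ((Mod48.tR (O := X.sheaf) (LGlob19.OX k N ι (-d))).obj ω) p) := h (-d) (by omega) p hp
  let e' := e ≪≫ (Mod48.tensSymm (O := X.sheaf) (LGlob19.OX k N ι (-d))).app ω
  exact (E.toEquiv.trans (Crv77.hEquiv k e' p).toEquiv).subsingleton

theorem exists_hh_OX_vanish (n : ℕ)
    (hdepth : ∀ z : X, IsClosed ({z} : Set X) → (n : ℕ∞) ≤ LocCoh.depth (X.presheaf.stalk z) (X.presheaf.stalk z)) :
    ∃ c : ℤ, ∀ d : ℤ, d ≤ c → ∀ j : ℕ, j < n → Subsingleton (Coh.HH X (LGlob19.OX k N ι d) j) := by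
  haveI := LGlob19.isLocallyNoetherian_sub k N ι
  have hO : Coh.IsCoh (Coh.structureModule X) := QC70.isCoh_unit
  obtain ⟨m₀, h⟩ := (exists_vanishX_iff k N ι hO n).2 fun z hz => by
    obtain ⟨U, hzU, ⟨e⟩⟩ := Mero90.isFinLocFreeOfRank_of_isInvertible
      (EGA73.isInvertible_structureModule (X := X)) z
    obtain ⟨s, hs⟩ := Props58.LocFree.exists_stalkBasis_of_iso e
    unfold LocCoh.depth
    rw [S2854.idealDepth_congr' ((hs.stalkEquiv z hzU).symm.trans
      (LinearEquiv.funUnique (Fin 1) (X.presheaf.stalk z) (X.presheaf.stalk z)))]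
    exact hdepth z hz
  refine ⟨-m₀, fun d hd j hj => ?_⟩
  have := h (-d) (by omega) j hj
  rw [neg_neg] at this
  exact ValVan29.subsingleton_hh_of_iso (EGA73.tensUnitLeft _) j this

theorem exists_presentationX (F : X.Modules) (hF : Coh.IsCoh F) :
    ∃ c : ℤ, ∀ d : ℤ, d ≤ c → ∃ (b : ℕ) (p : (∐ fun _ : Fin b => LGlob19.OX k N ι d) ⟶ F), Epi p := by
  haveI := Serre71.isProper_projSpace N k
  haveI : IsLocallyNoetherian (CohB1.ProjSpace N k) :=
    LocallyOfFiniteType.isLocallyNoetherian (CohB1.ProjSpace.toSpec N k)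
  haveI := hF.1
  haveI := hF.2
  have hP := QC70.isCoh_pushforward ι F hF
  obtain ⟨m₁, hm₁⟩ := Var76.Reg.exists_reg _ hP
  refine ⟨-m₁, fun d hd => ?_⟩
  obtain ⟨b, p, hp⟩ : ∃ (b : ℕ) (p : (∐ fun _ : Fin b => Twist.twistProjSpace N k d) ⟶
      (Scheme.Modules.pushforward ι).obj F), Epi p := by
    obtain ⟨b, p, hp, -⟩ := (hm₁.mono hP.1 (show m₁ ≤ -d by omega)).exists_presentation hP
    have e : - -d = d := neg_neg d
    revert p
    rw [e]
    exact fun p hp => ⟨b, p, hp⟩
  haveI : (Scheme.Modules.pushforward ι).Faithful := QC70.faithful_pushforward ι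
  let A := Scheme.Modules.pullbackPushforwardAdjunction ι
  haveI : PreservesColimitsOfSize.{0, 0} (Scheme.Modules.pullback ι) := A.leftAdjoint_preservesColimits
  haveI : Epi ((Scheme.Modules.pullback ι).map p) := inferInstance
  exact ⟨b, (PreservesCoproduct.iso (Scheme.Modules.pullback ι)
    (fun _ : Fin b => Twist.twistProjSpace N k d)).inv ≫ (Scheme.Modules.pullback ι).map p ≫ A.counit.app F,
    epi_comp _ _⟩

include N ι in
/-- Enough acyclic quotients. -/
theorem enoughTop_of_depth [X.Over (Spec (CommRingCat.of k))] (n : ℕ) {ω : X.Modules} (hω : Coh.IsCoh ω)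
    (hdepth : ∀ z : X, IsClosed ({z} : Set X) → (n : ℕ∞) ≤ LocCoh.depth (X.presheaf.stalk z) (X.presheaf.stalk z)) :
    EnoughTop n ω := by
  intro F hF
  haveI := LGlob19.isLocallyNoetherian_sub k N ι
  obtain ⟨c₁, h₁⟩ := exists_ext_OX_vanish k N ι hω
  obtain ⟨c₂, h₂⟩ := exists_hh_OX_vanish k N ι n hdepth
  obtain ⟨c₃, h₃⟩ := exists_presentationX k N ι F hF
  let d := min c₁ (min c₂ c₃)
  obtain ⟨b, p, hp⟩ := h₃ d ((min_le_right _ _).trans (min_le_right _ _))
  let M : Fin b → X.Modules := fun _ => LGlob19.OX k N ι d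
  refine ⟨∐ M, p, hp, QC70.isCoh_of_iso (biproduct.isoCoproduct M)
    (QC70.isCoh_biproduct M fun _ => isCoh_OX k N ι d),
    fun q hq => subsingleton_ext_sigma M ω q fun _ => h₁ d (min_le_left _ _) q hq, fun q hq => ?_⟩
  haveI := h₂ d ((min_le_right _ _).trans (min_le_left _ _)) q hq
  refine subsingleton_of_forall_eq 0 fun y => ?_
  obtain ⟨z, rfl⟩ := SerreD94.hmap_sigma_total (A := k) M q y
  exact Finset.sum_eq_zero fun l _ => by
    rw [show z l = 0 from @Subsingleton.elim (Coh.HH X (LGlob19.OX k N ι d) q) _ _ _, map_zero]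

end Groth.Agent.PDual19
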