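import Groth.Agent.Gor18.Regular
import Groth.Agent.LC17.GorExt

/-!
# Vanishing of local cohomology and of `Ext` over a regular local ring
-/

universe u

open CategoryTheory IsLocalRing

set_option autoImplicit false

noncomputable section

namespace Groth.Agent.PDual19

theorem subsingleton_ext_iff_H (A : Type u) [CommRing A] [IsRegularLocalRing A] (r : ℕ)
    (hr : ringKrullDim A = r) (M : Type u) [AddCommGroup M] [Module A M] [Module.Finite A M]
    {i j : ℕ} (hij : i + j = r) :
    Subsingleton (Abelian.Ext (ModuleCat.of A M) (ModuleCat.of A A) i) ↔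
      Subsingleton (LocCoh.H (maximalIdeal A) j M) := by
  haveI := Groth.Agent.Gor18.regular_gor A
  haveI := Groth.Agent.Gor18.gor_cm A
  obtain ⟨f₀, hf₀⟩ := Groth.Agent.Gor18.exists_hull_H A r hr
  haveI := hf₀.isInjective
  constructor
  · intro h
    obtain ⟨e⟩ := Groth.Agent.LC16.CanonDual.duality (R := A) (K := A) hr
      (LinearMap.ringLmapEquivSelf A A (LocCoh.H (maximalIdeal A) r A)) i j hij M
    haveI : Subsingleton (Groth.Agent.LC16.CanonDual.EK (R := A) A M i) := h
    exact e.toEquiv.subsingleton
  · exact fun h => Groth.Agent.LC16.CanonDual.subsingleton_EK_of_H (R := A) (K := A) hr hf₀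
      (LinearMap.ringLmapEquivSelf A A (LocCoh.H (maximalIdeal A) r A)) hij M h

theorem subsingleton_H_of_gt (A : Type u) [CommRing A] [IsRegularLocalRing A] (r : ℕ)
    (hr : ringKrullDim A = r) (M : Type u) [AddCommGroup M] [Module A M] {j : ℕ} (hj : r < j) :
    Subsingleton (LocCoh.H (maximalIdeal A) j M) :=
  Groth.Agent.LC15.cdLE_of_ringKrullDim_le _ hr.le M j hj

end Groth.Agent.PDual19
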