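import Groth.Agent.PDual19.Duality
import Groth.Agent.PDual19.RegLocal
import Groth.Agent.LGlob19.Twist
import Groth.Agent.SerreD94.Split
import Groth.Agent.LC16.ExtStalk
import Groth.Agent.LC16.ExtCodimPn
import Groth.Agent.LC16.CanonLocal

/-!
# `H^i(F(-m)) = 0` for `m ≫ 0` on projective space, local criteria
-/

universe u

open CategoryTheory Limits AlgebraicGeometry Opposite Abelian

set_option autoImplicit false
set_option maxSynthPendingDepth 6
set_option maxHeartbeats 1000000
set_option synthInstance.maxHeartbeats 800000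
set_option backward.isDefEq.respectTransparency.types false

noncomputable section

namespace Groth.Agent.PDual19

open Var76.Reg

variable (r : ℕ) (k : Type u) [Field k]

theorem nonempty_extS_tw (F : (CohB1.ProjSpace r k).Modules) [HasInjectiveResolutions (CohB1.ProjSpace r k).Modules]
    (G : (CohB1.ProjSpace r k).Modules) (m : ℤ) (j : ℕ) :
    Nonempty ((LGlob19.extS (tw r k F (-m)) j).obj G ≅ tw r k ((LGlob19.extS F j).obj G) m) := by
  let N := Twist.twistProjSpace r k (-m)
  haveI := QC70.hasSheafHom_modSite F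
  haveI := QC70.hasSheafHom_modSite N
  haveI := QC70.hasSheafHom_modSite (CohB1.tensorMod F N)
  haveI : HasInjectiveResolutions (ModSite.Mod (CohB1.ProjSpace r k).sheaf) :=
    ‹HasInjectiveResolutions (CohB1.ProjSpace r k).Modules›
  obtain ⟨e₁⟩ := nonempty_twist_add (n := r) (A := k) (show -m + m = 0 by omega)
  obtain ⟨e₀⟩ := nonempty_twist_zero (n := r) (A := k)
  obtain ⟨e₂⟩ := nonempty_homMod_iso (e₁ ≪≫ e₀) (Coh.structureModule (CohB1.ProjSpace r k))
  have hN : FlatMod.IsFinLocFree N := fun x =>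
    (Mero90.isFinLocFreeOfRank_of_isInvertible (isInvertible_twist (n := r) (A := k) (-m)) x).imp fun _ hU => ⟨1, hU⟩
  let D : QC70.dualMod N ≅ Twist.twistProjSpace r k m := e₂ ≪≫ EGA73.tensUnitRight _
  obtain ⟨t⟩ := QC70.nonempty_extSh_tensor hN F G (CohB1.tensorMod F N) (Twist.twistProjSpace r k m)
    (QC70.homTensorIso' N F) D.symm j
  obtain ⟨a⟩ := LGlob19.nonempty_extSh_iso (CohB1.tensorMod F N) G j
  obtain ⟨b⟩ := LGlob19.nonempty_extSh_iso F G j
  exact ⟨a.symm ≪≫ t ≪≫ EGA73.tensIso b (Iso.refl _)⟩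

/-- The criterion through the Ext sheaf. -/
theorem exists_vanish_iff_isZero [HasInjectiveResolutions (CohB1.ProjSpace r k).Modules]
    {F : (CohB1.ProjSpace r k).Modules} (hF : Coh.IsCoh F) {i j : ℕ} (hij : i + j = r) :
    (∃ m₀ : ℤ, ∀ m : ℤ, m₀ ≤ m → Subsingleton (Coh.HH (CohB1.ProjSpace r k) (tw r k F (-m)) i)) ↔
      IsZero ((LGlob19.extS F j).obj (SerreD94.omega r k)) := by
  letI : HasExt.{u} (CohB1.ProjSpace r k).Modules := hasExt_of_enoughInjectives.{u} _
  have hω : Coh.IsCoh (SerreD94.omega r k) := Amp73.isCoh_of_isInvertible (isInvertible_twist _)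
  have hE : ∀ l, Coh.IsCoh ((LGlob19.extS F l).obj (SerreD94.omega r k)) := fun l =>
    LGlob19.isCoh_extS hF hω l
  choose J hJ using fun l => exists_vanish _ (hE l)
  have hb : ∀ t : ℕ, ∃ c : ℤ, ∀ l, l < t → J l ≤ c := fun t => by
    induction t with
    | zero => exact ⟨0, fun l hl => absurd hl (Nat.not_lt_zero l)⟩
    | succ t ih =>
      obtain ⟨c, hc⟩ := ih
      refine ⟨max c (J t), fun l hl => ?_⟩
      rcases (Nat.lt_succ_iff.mp hl).lt_or_eq with h | rfl
      · exact (hc l h).trans (le_max_left _ _)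
      · exact le_max_right _ _
  obtain ⟨c, hc⟩ := hb j
  have key : ∀ m, c ≤ m → (Subsingleton (Coh.HH (CohB1.ProjSpace r k) (tw r k F (-m)) i) ↔
      Subsingleton (Coh.HH (CohB1.ProjSpace r k)
        (tw r k ((LGlob19.extS F j).obj (SerreD94.omega r k)) m) 0)) := fun m hm => by
    have hFm : Coh.IsCoh (tw r k F (-m)) :=
      Amp73.isCoh_tensorMod hF (Amp73.isCoh_of_isInvertible (isInvertible_twist _))
    have hac : LGlob19.AcBelow (tw r k F (-m)) (SerreD94.omega r k) j := fun l hl p hp => by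
      obtain ⟨e⟩ := nonempty_extS_tw r k F (SerreD94.omega r k) m l
      exact ValVan29.subsingleton_hh_of_iso e.symm p (hJ l m ((hc l hl).trans hm) p hp)
    obtain ⟨e⟩ := LGlob19.nonempty_equiv k (tw r k F (-m)) j (SerreD94.omega r k) hac
    obtain ⟨d⟩ := (duality r k j (tw r k F (-m)) hFm).1 i (by omega)
    obtain ⟨t⟩ := nonempty_extS_tw r k F (SerreD94.omega r k) m j
    exact (Module.subsingleton_dual_iff k).symm.trans
      ((d.symm.trans (e.trans (Crv77.hEquiv k t 0))).toEquiv.subsingleton_congr)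
  constructor
  · rintro ⟨m₀, hm₀⟩
    obtain ⟨m₁, hm₁⟩ := exists_reg _ (hE j)
    let m := max m₁ (max c m₀)
    exact SerreD94.isZero_of_reg_of_h0 (hE j) (hm₁.mono (hE j).1 (le_max_left m₁ (max c m₀)))
      ((key m ((le_max_left c m₀).trans (le_max_right _ _))).1
        (hm₀ m ((le_max_right c m₀).trans (le_max_right _ _))))
  · intro h
    refine ⟨c, fun m hm => (key m hm).2 ?_⟩
    exact ValVan29.subsingleton_hh_of_isZero (ValVan29.isZero_tensorMod h (isInvertible_twist m)) 0

theorem dim_stalk_closed {x : CohB1.ProjSpace r k} (hx : IsClosed ({x} : Set (CohB1.ProjSpace r k))) :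
    ringKrullDim ((CohB1.ProjSpace r k).presheaf.stalk x) = r := by
  refine le_antisymm ?_ ?_
  · have h := topologicalKrullDim_subspace_le (CohB1.ProjSpace r k)
      (Set.range ((CohB1.ProjSpace r k).fromSpecStalk x))
    rw [S10829.result k r, ← IsHomeomorph.topologicalKrullDim_eq _
      ((CohB1.ProjSpace r k).fromSpecStalk x).isEmbedding.toHomeomorph.isHomeomorph] at h
    exact (PrimeSpectrum.topologicalKrullDim_eq_ringKrullDim _).ge.trans h
  · haveI := Serre71.isProper_projSpace r k
    obtain ⟨N, M, hN, hM, hNM⟩ := LC16.ExtCodim.natCast_le_dim_stalk (CohB1.ProjSpace.toSpec r k) r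
      (LC16.ExtCodim.dim_components_projSpace k r) x
    rw [hx.closure_eq] at hN
    have h0 : (N : WithBot ℕ∞) ≤ 0 := by
      rw [← hN]
      exact topologicalKrullDim_zero_of_discreteTopology _
    have : N = 0 := by exact_mod_cast le_antisymm h0 (by positivity)
    exact le_trans (by exact_mod_cast (by omega : r ≤ M)) hM

theorem subsingleton_stalk_ext_iff [HasInjectiveResolutions (CohB1.ProjSpace r k).Modules]
    {F : (CohB1.ProjSpace r k).Modules} (hF : Coh.IsCoh F) (j : ℕ) (x : CohB1.ProjSpace r k) :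
    Subsingleton ((((LGlob19.extS F j).obj (SerreD94.omega r k))).presheaf.stalk x) ↔
      Subsingleton (Abelian.Ext (ModuleCat.of ((CohB1.ProjSpace r k).presheaf.stalk x) (F.presheaf.stalk x))
        (ModuleCat.of ((CohB1.ProjSpace r k).presheaf.stalk x) ((CohB1.ProjSpace r k).presheaf.stalk x)) j) := by
  obtain ⟨l⟩ := LC16.ExtStalk.nonempty_stalk_rightDerived x hF (SerreD94.omega r k) j
  obtain ⟨U, hxU, ⟨e⟩⟩ :=
    Mero90.isFinLocFreeOfRank_of_isInvertible (isInvertible_twist (n := r) (A := k) (SerreD94.eω r)) x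
  obtain ⟨s, hs⟩ := Props58.LocFree.exists_stalkBasis_of_iso e
  let w := (hs.stalkEquiv x hxU).symm.trans
    (LinearEquiv.funUnique (Fin 1) ((CohB1.ProjSpace r k).presheaf.stalk x) ((CohB1.ProjSpace r k).presheaf.stalk x))
  refine l.toEquiv.subsingleton_congr.trans ?_
  exact (LC16.CanonLocal.extCongr (LinearEquiv.refl _ (F.presheaf.stalk x)) w j).toEquiv.subsingleton_congr

theorem isZero_iff_closed [HasInjectiveResolutions (CohB1.ProjSpace r k).Modules]
    {F : (CohB1.ProjSpace r k).Modules} (hF : Coh.IsCoh F) (j : ℕ) :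
    IsZero ((LGlob19.extS F j).obj (SerreD94.omega r k)) ↔
      ∀ x : CohB1.ProjSpace r k, IsClosed ({x} : Set (CohB1.ProjSpace r k)) →
        Subsingleton (((LGlob19.extS F j).obj (SerreD94.omega r k)).presheaf.stalk x) := by
  let E := (LGlob19.extS F j).obj (SerreD94.omega r k)
  have hE : Coh.IsCoh E := LGlob19.isCoh_extS hF (Amp73.isCoh_of_isInvertible (isInvertible_twist _)) j
  haveI := hE.2
  constructor
  · intro h x _
    exact ModuleCat.subsingleton_of_isZero ((DCK91.SP x).map_isZero h)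
  · intro h
    refine QC70.isZero_of_support_eq_empty (Set.not_nonempty_iff_eq_empty.mp fun hne => ?_)
    obtain ⟨x, hx, hxc⟩ := (QC70.isClosed_support E).exists_closed_singleton hne
    exact QC70.notMem_support_iff.mpr (h x hxc) hx

/-- The local-cohomology criterion. -/
theorem exists_vanish_iff_H {F : (CohB1.ProjSpace r k).Modules} (hF : Coh.IsCoh F) (i : ℕ) :
    (∃ m₀ : ℤ, ∀ m : ℤ, m₀ ≤ m → Subsingleton (Coh.HH (CohB1.ProjSpace r k) (tw r k F (-m)) i)) ↔
      ∀ x : CohB1.ProjSpace r k, IsClosed ({x} : Set (CohB1.ProjSpace r k)) →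
        Subsingleton (LocCoh.H (IsLocalRing.maximalIdeal ((CohB1.ProjSpace r k).presheaf.stalk x)) i
          (F.presheaf.stalk x)) := by
  rcases le_or_gt i r with hi | hi
  · rw [exists_vanish_iff_isZero r k hF (Nat.add_sub_cancel' hi), isZero_iff_closed r k hF]
    refine forall₂_congr fun x hx => ?_
    haveI := LC16.ExtCodim.regular_projSpace k r x
    haveI := hF.1
    haveI := hF.2
    haveI : Module.Finite ((CohB1.ProjSpace r k).presheaf.stalk x) (F.presheaf.stalk x) := QC70.finite_stalk F x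
    exact (subsingleton_stalk_ext_iff r k hF (r - i) x).trans
      (subsingleton_ext_iff_H _ r (dim_stalk_closed r k hx) _ (Nat.sub_add_cancel hi))
  · refine iff_of_true ⟨0, fun m _ => Var76.Reg.subsingleton_hh_gt r k _ (isQCoh_tw r k F hF.1 _) i hi⟩
      fun x hx => ?_
    haveI := LC16.ExtCodim.regular_projSpace k r x
    exact subsingleton_H_of_gt _ r (dim_stalk_closed r k hx) _ hi

end Groth.Agent.PDual19
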