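import Groth.Agent.PDual19.DualityX
import Groth.Agent.PDual19.EnoughX
import Groth.Agent.PDual19.Vanish

/-!
# Duality in a range of degrees
-/

universe u

open CategoryTheory Limits AlgebraicGeometry Opposite Abelian

set_option autoImplicit false
set_option maxSynthPendingDepth 6
set_option maxHeartbeats 1000000
set_option synthInstance.maxHeartbeats 800000
set_option backward.isDefEq.respectTransparency.types false

noncomputable section

namespace Groth.Agent.PDual19

variable (k : Type u) [Field k] {X : Scheme.{u}} [X.Over (Spec (CommRingCat.of k))] (n : ℕ)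
  (ω : X.Modules) (t : Coh.HH X ω n →ₗ[k] k) [HasExt.{u} X.Modules]

include t in
theorem duality_range [IsLocallyNoetherian X] (hd : IsDualizing k n ω t) (s : ℕ)
    (hres : ∀ F : X.Modules, Coh.IsCoh F → ∃ (E : X.Modules) (p : E ⟶ F), Epi p ∧ Coh.IsCoh E ∧
      (∀ q, 0 < q → Subsingleton (Ext E ω q)) ∧ ∀ q, n ≤ q + s → q < n → Subsingleton (Coh.HH X E q)) (i : ℕ) :
    ∀ F : X.Modules, Coh.IsCoh F → ∀ j, i ≤ s → i + j = n →
      Nonempty (Ext F ω i ≃ₗ[k] Module.Dual k (Coh.HH X F j)) := by
  induction i with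
  | zero =>
    intro F hF j _ hj
    obtain rfl : j = n := by omega
    exact ⟨Ext.linearEquiv₀.trans (LinearEquiv.ofBijective _ (bijective_pairX k _ ω t hd hF))⟩
  | succ i IH =>
    intro F hF j his hj
    obtain ⟨E, p, hp, h₂, he, hh⟩ := hres F hF
    let S : ShortComplex X.Modules := ShortComplex.mk (kernel.ι p) p (kernel.condition p)
    have hS : S.ShortExact := Var76.Reg.KData.kernel_shortExact p
    have h₁ : Coh.IsCoh S.X₁ := QC70.isCoh_kernel p h₂ hF.1
    rcases Nat.eq_zero_or_pos i with rfl | hi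
    · exact dualityX_one k n ω t hd j (by omega) S hS h₁ h₂ (he 1 Nat.one_pos) (hh j (by omega) (by omega))
    haveI := he i hi
    haveI := he (i + 1) (Nat.succ_pos i)
    let δ : Ext S.X₁ ω i ≃ₗ[k] Ext S.X₃ ω (i + 1) :=
      LinearEquiv.ofBijective (extδ k hS ω (Nat.add_comm 1 i))
        ⟨injective_extδ k hS ω _, surjective_extδ k hS ω _⟩
    obtain ⟨e⟩ := IH S.X₁ h₁ (j + 1) (by omega) (by omega)
    haveI := hh j (by omega) (by omega)
    haveI := hh (j + 1) (by omega) (by omega)
    have hb : Function.Bijective (Crv77.hδ k hS j) := by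
      refine ⟨(injective_iff_map_eq_zero _).mpr fun x hx => ?_, fun y => ?_⟩
      · obtain ⟨z, rfl⟩ := (Crv77.exact_g_δ k hS j x).1 hx
        rw [Subsingleton.elim z 0, map_zero]
      · exact (Crv77.exact_δ_f k hS j y).1 (Subsingleton.elim _ _)
    exact ⟨δ.symm.trans (e.trans (LinearEquiv.ofBijective _ hb).dualMap)⟩

omit [X.Over (Spec (CommRingCat.of k))] [HasExt.{u} X.Modules] in
/-- Vanishing of `H^p(O_X(d))`, `d ≪ 0`, from a vanishing Ext sheaf. -/
theorem exists_hh_OX_vanish_of_extSh (N : ℕ) (ι : X ⟶ CohB1.ProjSpace N k) [IsClosedImmersion ι]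
    [ModSite.HasSheafHom (O := (CohB1.ProjSpace N k).sheaf) ((Scheme.Modules.pushforward ι).obj (Coh.structureModule X))]
    [HasInjectiveResolutions (ModSite.Mod (CohB1.ProjSpace N k).sheaf)] (i j : ℕ) (hij : i + j = N)
    (h : IsZero ((ModSite.extSh (O := (CohB1.ProjSpace N k).sheaf)
      ((Scheme.Modules.pushforward ι).obj (Coh.structureModule X)) j).obj (SerreD94.omega N k))) :
    ∃ c : ℤ, ∀ d : ℤ, d ≤ c → Subsingleton (Coh.HH X (LGlob19.OX k N ι d) i) := by
  haveI : HasInjectiveResolutions (CohB1.ProjSpace N k).Modules := ‹HasInjectiveResolutions (ModSite.Mod _)›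
  haveI := LGlob19.isLocallyNoetherian_sub k N ι
  haveI := Serre71.isProper_projSpace N k
  haveI : IsLocallyNoetherian (CohB1.ProjSpace N k) :=
    LocallyOfFiniteType.isLocallyNoetherian (CohB1.ProjSpace.toSpec N k)
  have hO : Coh.IsCoh (Coh.structureModule X) := QC70.isCoh_unit
  haveI := hO.1
  haveI := hO.2
  obtain ⟨a⟩ := LGlob19.nonempty_extSh_iso ((Scheme.Modules.pushforward ι).obj (Coh.structureModule X)) (SerreD94.omega N k) j
  obtain ⟨m₀, hm⟩ := (exists_vanish_iff_isZero N k
    (QC70.isCoh_pushforward ι (Coh.structureModule X) hO) hij).2 (h.of_iso a.symm)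
  refine ⟨-m₀, fun d hd => ?_⟩
  obtain ⟨e⟩ := nonempty_hh_twist_push k N ι (Coh.structureModule X) hO d i
  haveI := hm (-d) (by omega)
  rw [neg_neg] at this
  exact ValVan29.subsingleton_hh_of_iso (EGA73.tensUnitLeft _) i e.symm.subsingleton

end Groth.Agent.PDual19
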