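import Groth.Agent.PDual19.ExtAux
import Groth.Agent.SerreD94.Duality
import Groth.Agent.QC70.HomLocFree
import Groth.Agent.Mod48.Invertible
import Groth.Agent.Mero90.Frames
import Groth.Prelude.Def_KLin

/-!
# Serre duality `Ext^i(F, O(-n-1)) ≅ H^{n-i}(F)^∨` on projective space
-/

universe u

open CategoryTheory Limits AlgebraicGeometry Opposite Abelian

set_option autoImplicit false
set_option maxSynthPendingDepth 6
set_option maxHeartbeats 1000000
set_option synthInstance.maxHeartbeats 400000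
set_option backward.isDefEq.respectTransparency.types false

noncomputable section

namespace Groth.Agent.PDual19

/-- `𝓗om` out of a module with a tensor inverse is tensoring with the inverse. -/
theorem nonempty_homMod_iso {X : Scheme.{u}} {L N : X.Modules}
    (e : CohB1.tensorMod L N ≅ Coh.structureModule X) (M : X.Modules) :
    Nonempty (QC70.homMod L M ≅ CohB1.tensorMod N M) := by
  let T : X.Modules ⥤ X.Modules := Mod48.tL (O := X.sheaf) L
  let T' : X.Modules ⥤ X.Modules := Mod48.tL (O := X.sheaf) N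
  let a : T' ⋙ T ≅ 𝟭 _ :=
    (Mod48.tensorCompIso (O := X.sheaf) L N).symm ≪≫ (ModSite.tensorBi X.sheaf).mapIso e ≪≫ Mod48.tensUnit
  let b : T ⋙ T' ≅ 𝟭 _ :=
    (Mod48.tensorCompIso (O := X.sheaf) N L).symm ≪≫
      (ModSite.tensorBi X.sheaf).mapIso (((Mod48.tensSymm (O := X.sheaf) N).app L) ≪≫ e) ≪≫ Mod48.tensUnit
  exact ⟨(Adjunction.rightAdjointUniq (QC70.homModAdjL L)
    (CategoryTheory.Equivalence.mk T T' b.symm a).toAdjunction).app M⟩

variable (n : ℕ) (k : Type u) [Field k]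


theorem subsingleton_ext_twist [HasExt.{u} (CohB1.ProjSpace n k).Modules] {d : ℤ}
    (hd : d ≤ SerreD94.eω n) {p : ℕ} (hp : 0 < p) :
    Subsingleton (Ext (Twist.twistProjSpace n k d) (SerreD94.omega n k) p) := by
  have hinv : PicF.IsInvertible (Twist.twistProjSpace n k d) := Var76.Reg.isInvertible_twist d
  obtain ⟨e₁⟩ := Var76.Reg.nonempty_twist_add (n := n) (A := k) (show d + (-d) = 0 by omega)
  obtain ⟨e₀⟩ := Var76.Reg.nonempty_twist_zero (n := n) (A := k)
  obtain ⟨e⟩ := nonempty_homMod_iso (e₁ ≪≫ e₀) ((SerreD94.omega n k))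
  obtain ⟨e₂⟩ := Var76.Reg.nonempty_twist_add (n := n) (A := k)
    (show -d + SerreD94.eω n = SerreD94.eω n - d by omega)
  obtain ⟨E⟩ := QC70.nonempty_ext_equiv_HH
    (fun x => (Mero90.isFinLocFreeOfRank_of_isInvertible hinv x).imp fun _ hU => ⟨1, hU⟩ :
      FlatMod.IsFinLocFree (Twist.twistProjSpace n k d)) (SerreD94.omega n k) p
  have : Subsingleton (Coh.HH (CohB1.ProjSpace n k) (Twist.twistProjSpace n k (SerreD94.eω n - d)) p) :=
    Pn71.subsingleton_hh n k _ p (by omega) (by simp only [SerreD94.eω] at hd ⊢; omega)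
  exact (E.toEquiv.trans (Crv77.hEquiv k (e ≪≫ e₂) p).toEquiv).subsingleton

/-- The pairing of `Hom(F, ω)` with top cohomology. -/
def pair (F : (CohB1.ProjSpace n k).Modules) :
    (F ⟶ (SerreD94.omega n k)) →ₗ[k] Module.Dual k (Coh.HH (CohB1.ProjSpace n k) F n) where
  toFun φ := (SerreD94.trace n k).comp (Crv77.hmap k φ n)
  map_add' φ ψ := LinearMap.ext fun x => by
    simp only [LinearMap.comp_apply, LinearMap.add_apply, SerreD94.hmap_add, map_add]
  map_smul' a φ := LinearMap.ext fun x => by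
    simp only [LinearMap.comp_apply, LinearMap.smul_apply, RingHom.id_apply]
    rw [KLin.smul_def, ← Crv77.hmap_comp, ← map_smul, ← map_smul]
    rfl

theorem pair_apply {F : (CohB1.ProjSpace n k).Modules} (φ : F ⟶ (SerreD94.omega n k)) (x : Coh.HH (CohB1.ProjSpace n k) F n) :
    pair n k F φ x = SerreD94.trace n k (Crv77.hmap k φ n x) := rfl

theorem bijective_pair {F : (CohB1.ProjSpace n k).Modules} (hF : Coh.IsCoh F) :
    Function.Bijective (pair n k F) := by
  refine ⟨fun φ ψ h => ?_, fun ψ => ?_⟩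
  · exact (SerreD94.existsUnique_dual n k hF (pair n k F φ)).unique (fun x => rfl)
      (fun x => LinearMap.congr_fun h x)
  · obtain ⟨φ, hφ, -⟩ := SerreD94.existsUnique_dual n k hF ψ
    exact ⟨φ, LinearMap.ext fun x => (hφ x).symm⟩

theorem pair_comp {F G : (CohB1.ProjSpace n k).Modules} (f : F ⟶ G) (φ : G ⟶ (SerreD94.omega n k)) :
    pair n k F (f ≫ φ) = (Crv77.hmap k f n).dualMap (pair n k G φ) :=
  LinearMap.ext fun x => congrArg (SerreD94.trace n k) (Crv77.hmap_comp k f φ n x).symm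

/-- A resolution step: `0 → K → E → F → 0` with `E` killed by positive `Ext(-, ω)` and with top cohomology only. -/
structure Step (F : (CohB1.ProjSpace n k).Modules) [HasExt.{u} (CohB1.ProjSpace n k).Modules] where
  S : ShortComplex (CohB1.ProjSpace n k).Modules
  shortExact : S.ShortExact
  iso : S.X₃ ≅ F
  coh₁ : Coh.IsCoh S.X₁
  coh₂ : Coh.IsCoh S.X₂
  ext₂ : ∀ p, 0 < p → Subsingleton (Ext S.X₂ (SerreD94.omega n k) p)
  hh₂ : ∀ q, q < n → Subsingleton (Coh.HH (CohB1.ProjSpace n k) S.X₂ q)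

theorem nonempty_step [HasExt.{u} (CohB1.ProjSpace n k).Modules] {F : (CohB1.ProjSpace n k).Modules}
    (hF : Coh.IsCoh F) : Nonempty (Step n k F) := by
  obtain ⟨d, b, p, hd, hp⟩ := SerreD94.exists_presentation n k F hF
  let N : Fin b → (CohB1.ProjSpace n k).Modules := fun _ => Twist.twistProjSpace n k d
  have hN : Coh.IsCoh (∐ N) := QC70.isCoh_of_iso (biproduct.isoCoproduct N)
    (QC70.isCoh_biproduct N fun _ => Amp73.isCoh_of_isInvertible (Var76.Reg.isInvertible_twist d))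
  refine ⟨⟨ShortComplex.mk (kernel.ι p) p (kernel.condition p), Var76.Reg.KData.kernel_shortExact p,
    Iso.refl _, QC70.isCoh_kernel p hN hF.1, hN, fun q hq => ?_, fun q hq => ?_⟩⟩
  · exact subsingleton_ext_sigma N (SerreD94.omega n k) q fun _ => subsingleton_ext_twist n k hd hq
  · haveI := Pn71.subsingleton_hh n k d q (by simp only [SerreD94.eω] at hd; omega) (by omega)
    refine subsingleton_of_forall_eq 0 fun y => ?_
    obtain ⟨z, rfl⟩ := SerreD94.hmap_sigma_total (A := k) N q y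
    exact Finset.sum_eq_zero fun l _ => by
      rw [show z l = 0 from @Subsingleton.elim (Coh.HH (CohB1.ProjSpace n k) (Twist.twistProjSpace n k d) q) _ _ _, map_zero]

variable [HasExt.{u} (CohB1.ProjSpace n k).Modules]

theorem duality_zero {F : (CohB1.ProjSpace n k).Modules} (hF : Coh.IsCoh F) :
    Nonempty (Ext F (SerreD94.omega n k) 0 ≃ₗ[k] Module.Dual k (Coh.HH (CohB1.ProjSpace n k) F n)) :=
  ⟨Ext.linearEquiv₀.trans (LinearEquiv.ofBijective _ (bijective_pair n k hF))⟩

theorem duality_one (j : ℕ) (hj : 1 + j = n) (S : ShortComplex (CohB1.ProjSpace n k).Modules)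
    (hS : S.ShortExact) (h₁ : Coh.IsCoh S.X₁) (h₂ : Coh.IsCoh S.X₂)
    (he : Subsingleton (Ext S.X₂ (SerreD94.omega n k) 1)) (hh : Subsingleton (Coh.HH (CohB1.ProjSpace n k) S.X₂ j)) :
    Nonempty (Ext S.X₃ (SerreD94.omega n k) 1 ≃ₗ[k] Module.Dual k (Coh.HH (CohB1.ProjSpace n k) S.X₃ j)) := by
  obtain rfl : n = j + 1 := by omega
  have hd : Function.Injective (Crv77.hδ k hS j) := (injective_iff_map_eq_zero _).mpr fun x hx => by
    obtain ⟨y, rfl⟩ := (Crv77.exact_g_δ k hS j x).1 hx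
    rw [Subsingleton.elim y 0, map_zero]
  let f : (S.X₁ ⟶ (SerreD94.omega (j + 1) k)) →ₗ[k] Ext S.X₃ (SerreD94.omega (j + 1) k) 1 :=
    (extδ k hS (SerreD94.omega (j + 1) k) (show 1 + 0 = 1 from rfl)).comp Ext.linearEquiv₀.symm.toLinearMap
  let g : (S.X₁ ⟶ (SerreD94.omega (j + 1) k)) →ₗ[k] Module.Dual k (Coh.HH (CohB1.ProjSpace (j + 1) k) S.X₃ j) :=
    (Crv77.hδ k hS j).dualMap.comp (pair (j + 1) k S.X₁)
  refine nonempty_equiv_of_ker_eq k f g
    ((surjective_extδ k hS (SerreD94.omega (j + 1) k) (show 1 + 0 = 1 from rfl)).comp Ext.linearEquiv₀.symm.surjective)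
    ((LinearMap.dualMap_surjective_iff.mpr hd).comp (bijective_pair (j + 1) k h₁).2) fun φ => ?_
  change extδ k hS (SerreD94.omega (j + 1) k) (show 1 + 0 = 1 from rfl) (Ext.linearEquiv₀.symm φ) = 0 ↔ _
  rw [show Ext.linearEquiv₀.symm φ = Ext.mk₀ φ from rfl, extδ_mk₀_eq_zero_iff]
  constructor
  · rintro ⟨ψ, rfl⟩
    refine LinearMap.ext fun x => ?_
    change pair (j + 1) k S.X₁ (S.f ≫ ψ) (Crv77.hδ k hS j x) = 0
    rw [pair_comp, LinearMap.dualMap_apply,
      ((Crv77.exact_δ_f k hS j) (Crv77.hδ k hS j x)).2 ⟨x, rfl⟩, map_zero]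
  · intro hg
    have hm : pair (j + 1) k S.X₁ φ ∈ (Crv77.hmap k S.f (j + 1)).ker.dualAnnihilator := by
      rw [Submodule.mem_dualAnnihilator]
      intro y hy
      obtain ⟨x, rfl⟩ := (Crv77.exact_δ_f k hS j y).1 hy
      exact LinearMap.congr_fun hg x
    rw [← LinearMap.range_dualMap_eq_dualAnnihilator_ker] at hm
    obtain ⟨ψ', hψ'⟩ := hm
    obtain ⟨ψ, rfl⟩ := (bijective_pair (j + 1) k h₂).2 ψ'
    exact ⟨ψ, (bijective_pair (j + 1) k h₁).1 ((pair_comp (j + 1) k S.f ψ).trans hψ')⟩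

theorem vanish_one (h0 : n = 0) (S : ShortComplex (CohB1.ProjSpace n k).Modules)
    (hS : S.ShortExact) (h₁ : Coh.IsCoh S.X₁) (h₂ : Coh.IsCoh S.X₂)
    (he : Subsingleton (Ext S.X₂ (SerreD94.omega n k) 1)) : Subsingleton (Ext S.X₃ (SerreD94.omega n k) 1) := by
  subst h0
  refine subsingleton_of_forall_eq 0 fun y => ?_
  obtain ⟨x, rfl⟩ := surjective_extδ k hS (SerreD94.omega 0 k) (show 1 + 0 = 1 from rfl) y
  obtain ⟨φ, rfl⟩ := (Ext.linearEquiv₀ (R := k)).symm.surjective x
  obtain ⟨ψ', hψ'⟩ := LinearMap.dualMap_surjective_iff.mpr (Crv77.injective_f_zero k hS) (pair 0 k S.X₁ φ)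
  obtain ⟨ψ, rfl⟩ := (bijective_pair 0 k h₂).2 ψ'
  exact (extδ_mk₀_eq_zero_iff k hS (SerreD94.omega 0 k) φ).2
    ⟨ψ, (bijective_pair 0 k h₁).1 ((pair_comp 0 k S.f ψ).trans hψ')⟩

/-- Coherent duality on projective space in every degree. -/
theorem duality (i : ℕ) : ∀ F : (CohB1.ProjSpace n k).Modules, Coh.IsCoh F →
    (∀ j, i + j = n → Nonempty (Ext F (SerreD94.omega n k) i ≃ₗ[k] Module.Dual k (Coh.HH (CohB1.ProjSpace n k) F j))) ∧
      (n < i → Subsingleton (Ext F (SerreD94.omega n k) i)) := by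
  induction i with
  | zero =>
    exact fun F hF => ⟨fun j hj => by obtain rfl : j = n := by omega
                                      exact duality_zero _ k hF, fun h => absurd h (Nat.not_lt_zero n)⟩
  | succ i IH =>
    intro F hF
    obtain ⟨⟨S, hS, eF, h₁, h₂, he, hh⟩⟩ := nonempty_step n k hF
    suffices H : (∀ j, i + 1 + j = n → Nonempty (Ext S.X₃ (SerreD94.omega n k) (i + 1) ≃ₗ[k] Module.Dual k (Coh.HH (CohB1.ProjSpace n k) S.X₃ j))) ∧
        (n < i + 1 → Subsingleton (Ext S.X₃ (SerreD94.omega n k) (i + 1))) by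
      let E : Ext F (SerreD94.omega n k) (i + 1) ≃ₗ[k] Ext S.X₃ (SerreD94.omega n k) (i + 1) :=
        LinearEquiv.ofLinearMap ((Ext.mk₀ eF.hom).precompOfLinear k (SerreD94.omega n k) (zero_add _))
          ((Ext.mk₀ eF.inv).precompOfLinear k (SerreD94.omega n k) (zero_add _))
          (LinearMap.ext fun x => by simp) (LinearMap.ext fun x => by simp)
      refine ⟨fun j hj => ?_, fun h => ?_⟩
      · obtain ⟨e⟩ := H.1 j hj
        exact ⟨E.trans (e.trans (Crv77.hEquiv k eF j).symm.dualMap)⟩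
      · exact E.toEquiv.subsingleton_congr.mpr (H.2 h)
    rcases Nat.eq_zero_or_pos i with rfl | hi
    · refine ⟨fun j hj => duality_one n k j (by omega) S hS h₁ h₂ (he 1 Nat.one_pos) (hh j (by omega)),
        fun h => vanish_one n k (by omega) S hS h₁ h₂ (he 1 Nat.one_pos)⟩
    haveI := he i hi
    haveI := he (i + 1) (Nat.succ_pos i)
    let δ : Ext S.X₁ (SerreD94.omega n k) i ≃ₗ[k] Ext S.X₃ (SerreD94.omega n k) (i + 1) :=
      LinearEquiv.ofBijective (extδ k hS (SerreD94.omega n k) (Nat.add_comm 1 i))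
        ⟨injective_extδ k hS (SerreD94.omega n k) _, surjective_extδ k hS (SerreD94.omega n k) _⟩
    refine ⟨fun j hj => ?_, fun h => ?_⟩
    · obtain ⟨e⟩ := (IH S.X₁ h₁).1 (j + 1) (by omega)
      haveI := hh j (by omega)
      haveI := hh (j + 1) (by omega)
      have hb : Function.Bijective (Crv77.hδ k hS j) := by
        refine ⟨(injective_iff_map_eq_zero _).mpr fun x hx => ?_, fun y => ?_⟩
        · obtain ⟨z, rfl⟩ := (Crv77.exact_g_δ k hS j x).1 hx
          rw [Subsingleton.elim z 0, map_zero]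
        · exact (Crv77.exact_δ_f k hS j y).1 (Subsingleton.elim _ _)
      exact ⟨δ.symm.trans (e.trans (LinearEquiv.ofBijective _ hb).dualMap)⟩
    · rcases (Nat.lt_succ_iff.mp h).lt_or_eq with h' | rfl
      · haveI := (IH S.X₁ h₁).2 h'
        exact δ.symm.toEquiv.subsingleton
      · obtain ⟨e⟩ := (IH S.X₁ h₁).1 0 (Nat.add_zero n)
        haveI := hh 0 hi
        haveI : Subsingleton (Coh.HH (CohB1.ProjSpace n k) S.X₁ 0) := (Crv77.injective_f_zero k hS).subsingleton
        exact (δ.symm.trans e).toEquiv.subsingleton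

end Groth.Agent.PDual19
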