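import Groth.Agent.QC70.HomLocFree
import Groth.Agent.Crv77.HH
import Groth.Prelude.Def_KLin
import Mathlib.Algebra.Homology.DerivedCategory.Ext.Linear

/-!
# `Ext^p(A, B) ≅ H^p(𝓗om(A, B))`, linearly over the base ring
-/

universe u

open CategoryTheory Limits AlgebraicGeometry Opposite Abelian

set_option autoImplicit false
set_option maxSynthPendingDepth 6
set_option maxHeartbeats 1000000
set_option synthInstance.maxHeartbeats 800000
set_option backward.isDefEq.respectTransparency.types false

noncomputable section

namespace Groth.Agent.PDual19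

theorem unitExtEquiv_naturality {C : Type u} [SmallCategory C] {J : GrothendieckTopology C}
    (R : Sheaf J RingCat.{u}) [HasExt.{u} (SheafOfModules.{u} R)] {M M' : SheafOfModules.{u} R}
    (f : M ⟶ M') (n : ℕ) (x : Ext.{u} (SheafOfModules.unit R) M n) :
    SiteMod.unitExtEquiv R M' n (x.comp (Ext.mk₀ f) (add_zero n)) =
      Ext.comp (SiteMod.unitExtEquiv R M n x) (Ext.mk₀ ((SheafOfModules.toSheaf R).map f)) (add_zero n) :=
  SiteCoh.extTransfer_naturality (SheafOfModules.toSheaf R) (SiteMod.unitSec R) x f

open QC70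

variable {X : Scheme.{u}} {A : X.Modules}

theorem homMap_smulModΓ (A B : X.Modules) (r : Coh.Γtop X) :
    homMap A (Formal.smulModΓ B r) = Formal.smulModΓ (homMod A B) r := by
  refine Scheme.Modules.hom_ext _ _ fun W => ?_
  ext φ
  rw [KLin.smulModΓ_app_apply]
  refine HomOn.ext' fun V hV s => ?_
  change (Formal.smulModΓ B r).app V ((ofSec φ).app V hV s) =
    resO X hV (X.presheaf.map (homOfLE (le_top : W ≤ ⊤)).op r) • (ofSec φ).app V hV s
  rw [KLin.smulModΓ_app_apply]
  exact congrArg (· • (ofSec φ).app V hV s) (resO_resO _ _ _).symm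

theorem toSheaf_map_smulModΓ (M : X.Modules) (r : Coh.Γtop X) :
    (SheafOfModules.toSheaf X.ringCatSheaf).map (Formal.smulModΓ M r) = Coh.smulAb M r := rfl

/-- `Ext^p(A, B) ≅ H^p(X, 𝓗om(A, B))` linearly, for finite locally free `A`. -/
theorem nonempty_ext_linearEquiv_HH [HasExt.{u} X.Modules] (R : Type u) [CommRing R]
    [X.Over (Spec (CommRingCat.of R))] (hA : FlatMod.IsFinLocFree A) (B : X.Modules) (p : ℕ) :
    Nonempty (Ext A B p ≃ₗ[R] Coh.HH X (homMod A B) p) := by
  haveI : (homFunctor A).Additive := (homModAdj A).right_adjoint_additive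
  haveI hlim : PreservesLimitsOfSize.{u, u} (homFunctor A) :=
    (homModAdj A).rightAdjoint_preservesLimits
  haveI : PreservesLimitsOfSize.{0, 0} (homFunctor A) := preservesLimitsOfSize_shrink _
  haveI : PreservesFiniteLimits (homFunctor A) :=
    Limits.PreservesLimitsOfSize0.preservesFiniteLimits _
  haveI : PreservesFiniteColimits (homFunctor A) :=
    (Functor.preservesFiniteColimits_iff_forall_exact_map_and_epi _).mpr fun S hS =>
      ⟨(((Functor.preservesFiniteLimits_iff_forall_exact_map_and_mono _).mp inferInstance) S hS).1,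
        @epi_homMap X A hA _ _ S.g hS.epi_g⟩
  let e := SiteCoh.extTransfer (homFunctor A) (idSec A) B p
  have he : Function.Bijective e :=
    SiteCoh.extTransfer_bijective (homFunctor A) (idSec A) (fun M => bijective_idSec_comp A M)
      (fun J hJ n => by
        haveI : Injective ((homFunctor A).obj J) := @injective_homMod X A hA J hJ
        exact Ext.subsingleton_of_injective _ _ n) p B
  let u := SiteMod.unitExtEquiv (J := Opens.grothendieckTopology X) X.ringCatSheaf (homMod A B) p
  refine ⟨{ (AddEquiv.ofBijective e he).trans u with map_smul' := fun a x => ?_ }⟩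
  let r : Coh.Γtop X := Coh.toGlobal (X ↘ Spec (CommRingCat.of R)) a
  change u (e (a • x)) = a • u (e x)
  have h1 : e (a • x) = Ext.comp (e x) (Ext.mk₀ (Formal.smulModΓ (homMod A B) r)) (add_zero p) := by
    rw [Ext.smul_eq_comp_mk₀, KLin.smul_id, ← homMap_smulModΓ]
    exact SiteCoh.extTransfer_naturality _ _ x _
  rw [h1]
  exact unitExtEquiv_naturality X.ringCatSheaf (Formal.smulModΓ (homMod A B) r) p (e x)

end Groth.Agent.PDual19
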