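import Groth.Agent.PDual19.WedgePerfect
import Groth.Agent.Om3.ExtPowFrames
import Groth.Agent.RefCh18.ExtDet
import Groth.Agent.RB70.ExtZQCoh
import Groth.Agent.EGA73.GammaStarIso

/-!
# Complementary exterior powers of a locally free sheaf are dual with values in the determinant
-/

set_option autoImplicit false
set_option backward.isDefEq.respectTransparency.types false
set_option linter.style.haveILetI false

universe u

open CategoryTheory CategoryTheory.Limits AlgebraicGeometry TopologicalSpace Opposite exteriorPower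

noncomputable section

namespace Groth.Agent.PDual19

open Groth.Agent QC70 Props58.LocFree Om3
open Groth.Agent.KRR40.ExtFiltAlg (wedge wedge_ιMulti)

variable {X : Scheme.{u}} {E L L' W : X.Modules} {a c n : ℕ}

/-- The map `Γ(L', U) → Γ(Hom(L, W), U)` given by the wedge product on a chart. -/
def wedgeChart [L.IsQuasicoherent] (h : a + c = n) (U : X.affineOpens)
    (ψ : ↥(⋀[Γ(X, U.1)]^a Γ(E, U.1)) ≃ₗ[Γ(X, U.1)] Γ(L, U.1))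
    (ψ' : ↥(⋀[Γ(X, U.1)]^c Γ(E, U.1)) ≃ₗ[Γ(X, U.1)] Γ(L', U.1))
    (χ : ↥(⋀[Γ(X, U.1)]^n Γ(E, U.1)) ≃ₗ[Γ(X, U.1)] Γ(W, U.1)) :
    Γ(L', U.1) →ₗ[Γ(X, U.1)] Γ(homMod L W, U.1) :=
  (homSecEquiv U.2).symm.toLinearMap ∘ₗ (LinearEquiv.arrowCongr ψ χ).toLinearMap ∘ₗ
    (wedge (R := Γ(X, U.1)) (E := Γ(E, U.1)) a c n h).flip ∘ₗ ψ'.symm.toLinearMap

theorem wedgeChart_app [L.IsQuasicoherent] (h : a + c = n) (U : X.affineOpens)
    (ψ : ↥(⋀[Γ(X, U.1)]^a Γ(E, U.1)) ≃ₗ[Γ(X, U.1)] Γ(L, U.1))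
    (ψ' : ↥(⋀[Γ(X, U.1)]^c Γ(E, U.1)) ≃ₗ[Γ(X, U.1)] Γ(L', U.1))
    (χ : ↥(⋀[Γ(X, U.1)]^n Γ(E, U.1)) ≃ₗ[Γ(X, U.1)] Γ(W, U.1)) (y : ↥(⋀[Γ(X, U.1)]^c Γ(E, U.1)))
    (x : ↥(⋀[Γ(X, U.1)]^a Γ(E, U.1))) :
    (ofSec (wedgeChart h U ψ ψ' χ (ψ' y))).app U.1 le_rfl (ψ x) = χ (wedge a c n h x y) := by
  show ((homSecEquiv (M := L) (N := W) U.2).symm _).app U.1 le_rfl (ψ x) = _
  refine (LinearMap.congr_fun ((homSecEquiv (M := L) (N := W) U.2).apply_symm_apply _) (ψ x)).trans ?_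
  simp [LinearEquiv.arrowCongr]

theorem bijective_wedgeChart [L.IsQuasicoherent] (h : a + c = n) (U : X.affineOpens)
    (b : Module.Basis (Fin n) Γ(X, U.1) Γ(E, U.1))
    (ψ : ↥(⋀[Γ(X, U.1)]^a Γ(E, U.1)) ≃ₗ[Γ(X, U.1)] Γ(L, U.1))
    (ψ' : ↥(⋀[Γ(X, U.1)]^c Γ(E, U.1)) ≃ₗ[Γ(X, U.1)] Γ(L', U.1))
    (χ : ↥(⋀[Γ(X, U.1)]^n Γ(E, U.1)) ≃ₗ[Γ(X, U.1)] Γ(W, U.1)) :
    Function.Bijective (wedgeChart h U ψ ψ' χ) :=
  (homSecEquiv U.2).symm.bijective.comp ((LinearEquiv.arrowCongr ψ χ).bijective.comp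
    ((WedgePerfect.bijective_flip b h).comp ψ'.symm.bijective))

theorem ext_of_basis {R M N : Type u} [CommRing R] [AddCommGroup M] [Module R M] [AddCommGroup N] [Module R N]
    {P : Type u} [AddCommGroup P] [Module R P] {k m : ℕ} (b : Module.Basis (Fin m) R M)
    (e : ↥(⋀[R]^k M) ≃ₗ[R] N) (A B : N →ₗ[R] P)
    (hAB : ∀ g : Fin k → Fin m, A (e (ιMulti R k fun i => b (g i))) = B (e (ιMulti R k fun i => b (g i)))) : A = B := by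
  refine LinearMap.ext fun s => ?_
  obtain ⟨x, rfl⟩ := e.surjective s
  exact LinearMap.congr_fun (show A.comp e.toLinearMap = B.comp e.toLinearMap from
    exteriorPower.linearMap_ext (b.ext_alternating fun g _ => hAB g)) x

set_option maxHeartbeats 800000 in
theorem wedgeChart_res [E.IsQuasicoherent] [L.IsQuasicoherent] [L'.IsQuasicoherent] (h : a + c = n)
    {U V : X.affineOpens} (hle : V.1 ≤ U.1) (b : Module.Basis (Fin n) Γ(X, U.1) Γ(E, U.1))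
    {ψ : ↥(⋀[Γ(X, U.1)]^a Γ(E, U.1)) ≃ₗ[Γ(X, U.1)] Γ(L, U.1)}
    {ψ₁ : ↥(⋀[Γ(X, V.1)]^a Γ(E, V.1)) ≃ₗ[Γ(X, V.1)] Γ(L, V.1)}
    (hψ : ∀ x, res L hle (ψ x) = ψ₁ (resExt E a hle x))
    {ψ' : ↥(⋀[Γ(X, U.1)]^c Γ(E, U.1)) ≃ₗ[Γ(X, U.1)] Γ(L', U.1)}
    {ψ'₁ : ↥(⋀[Γ(X, V.1)]^c Γ(E, V.1)) ≃ₗ[Γ(X, V.1)] Γ(L', V.1)}
    (hψ' : ∀ x, res L' hle (ψ' x) = ψ'₁ (resExt E c hle x))
    {χ : ↥(⋀[Γ(X, U.1)]^n Γ(E, U.1)) ≃ₗ[Γ(X, U.1)] Γ(W, U.1)}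
    {χ₁ : ↥(⋀[Γ(X, V.1)]^n Γ(E, V.1)) ≃ₗ[Γ(X, V.1)] Γ(W, V.1)}
    (hχ : ∀ x, res W hle (χ x) = χ₁ (resExt E n hle x)) (z : Γ(L', V.1)) :
    (HomOn.ofLinear U.2 (wedgeChart h U ψ ψ' χ)).app V.1 hle z = wedgeChart h V ψ₁ ψ'₁ χ₁ z := by
  classical
  obtain ⟨b₁, hb₁⟩ := DetSeq.exists_basis_res b hle
  refine LinearMap.congr_fun (ext_of_basis b₁ ψ'₁ ((HomOn.ofLinear U.2 (wedgeChart h U ψ ψ' χ)).app V.1 hle)
    (wedgeChart h V ψ₁ ψ'₁ χ₁) fun f => ?_) z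
  refine (homSecEquiv (M := L) (N := W) V.2).injective (ext_of_basis b₁ ψ₁ _ _ fun g => ?_)
  show (ofSec ((HomOn.ofLinear U.2 (wedgeChart h U ψ ψ' χ)).app V.1 hle _)).app V.1 le_rfl
      (ψ₁ (ιMulti Γ(X, V.1) a fun i => b₁ (g i))) =
    (ofSec (wedgeChart h V ψ₁ ψ'₁ χ₁ _)).app V.1 le_rfl (ψ₁ (ιMulti Γ(X, V.1) a fun i => b₁ (g i)))
  rw [wedgeChart_app]
  have ey : ψ'₁ (ιMulti Γ(X, V.1) c fun i => b₁ (f i)) = res L' hle (ψ' (ιMulti Γ(X, U.1) c fun i => b (f i))) := by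
    rw [hψ', resExt_ιMulti]; exact congrArg _ (congrArg _ (funext fun i => hb₁ _))
  have ex : ψ₁ (ιMulti Γ(X, V.1) a fun i => b₁ (g i)) = res L hle (ψ (ιMulti Γ(X, U.1) a fun i => b (g i))) := by
    rw [hψ, resExt_ιMulti]; exact congrArg _ (congrArg _ (funext fun i => hb₁ _))
  rw [ey, ex, (HomOn.ofLinear U.2 (wedgeChart h U ψ ψ' χ)).app_res le_rfl hle, HomOn.ofLinear_app_self]
  refine ((ofSec (wedgeChart h U ψ ψ' χ _)).app_res le_rfl hle _).trans ?_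
  rw [wedgeChart_app, hχ, wedge_ιMulti, wedge_ιMulti, resExt_ιMulti]
  refine congrArg χ₁ (congrArg _ (funext fun i => ?_))
  simp only [Function.comp_apply]
  generalize Fin.cast h.symm i = j
  refine Fin.addCases (fun l => ?_) (fun l => ?_) j <;> simp [hb₁]

set_option maxHeartbeats 800000 in
/-- `⋀^c E ≅ Hom(⋀^a E, ⋀^n E)` for `E` locally free of rank `n = a + c`. -/
theorem nonempty_extPow_iso_hom [IsLocallyNoetherian X] (hE : FlatMod.IsFinLocFreeOfRank n E) (h : a + c = n)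
    (hL : ExtPow.IsExtPow a E L) (hL' : ExtPow.IsExtPow c E L') (hW : ExtPow.IsExtPow n E W) :
    Nonempty (L' ≅ homMod L W) := by
  classical
  have hEf : FlatMod.IsFinLocFree E := fun x => (hE x).imp fun U hU => ⟨n, hU⟩
  have hEc : Coh.IsCoh E := ⟨isQuasicoherent_of_isFinLocFree hEf, isFiniteType_of_isFinLocFree hEf⟩
  haveI : E.IsQuasicoherent := hEc.1
  haveI := isQuasicoherent_of_isExtPow hL
  haveI := isQuasicoherent_of_isExtPow hL'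
  haveI := isQuasicoherent_of_isExtPow hW
  haveI := RB70.isQuasicoherent_homMod (N := W) (RefCh18.isCoh_of_isExtPow hEc hL)
  obtain ⟨ψ, hψ⟩ := exists_psi hL
  obtain ⟨ψ', hψ'⟩ := exists_psi hL'
  obtain ⟨χ, hχ⟩ := exists_psi hW
  let ι := {U : X.affineOpens // Nonempty (Module.Basis (Fin n) Γ(X, U.1) Γ(E, U.1))}
  let φ : ∀ U : ι, HomOn L' (homMod L W) U.1.1 := fun U =>
    HomOn.ofLinear U.1.2 (wedgeChart h U.1 (ψ U.1) (ψ' U.1) (χ U.1))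
  have hsub : ∀ (U V : ι) (hle : V.1.1 ≤ U.1.1) (z : Γ(L', V.1.1)),
      (φ U).app V.1.1 hle z = wedgeChart h V.1 (ψ V.1) (ψ' V.1) (χ V.1) z := fun U V hle z =>
    wedgeChart_res h hle U.2.some (hψ U.1 V.1 hle) (hψ' U.1 V.1 hle) (hχ U.1 V.1 hle) z
  have hcov : ∀ x : X, ∃ U : ι, x ∈ U.1.1 := fun x => by
    obtain ⟨U, hU, hU'⟩ := DetSeq.exists_basis hE x
    obtain ⟨V, hV, hxV, hle⟩ := exists_isAffineOpen_mem_and_subset hU
    exact ⟨⟨⟨V, hV⟩, hU' V hle⟩, hxV⟩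
  have hcomp : HomOn.Compatible φ := by
    intro i j V hi hj z
    refine section_ext (homMod L W) _ _ fun p hp => ?_
    obtain ⟨U, hU, hU'⟩ := DetSeq.exists_basis hE p
    obtain ⟨T, hT, hpT, hle⟩ := exists_isAffineOpen_mem_and_subset (show p ∈ V ⊓ U from ⟨hp, hU⟩)
    have hTV : T ≤ V := fun y hy => (hle hy).1
    refine ⟨T, hTV, hpT, ?_⟩
    rw [← (φ i).app_res hi hTV, ← (φ j).app_res hj hTV]
    let T' : ι := ⟨⟨T, hT⟩, hU' T fun y hy => (hle hy).2⟩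
    exact (hsub i T' (hTV.trans hi) _).trans (hsub j T' (hTV.trans hj) _).symm
  have hU : (⊤ : X.Opens) ≤ ⨆ U : ι, U.1.1 := fun p _ => Opens.mem_iSup.2 (hcov p)
  let Ψ := (HomOn.glue hcomp hU).toHom
  have hΨ : ∀ U : ι, Function.Bijective (Ψ.app U.1.1) := fun U => by
    refine (congrArg Function.Bijective (funext fun z => ?_)).mp
      (bijective_wedgeChart h U.1 U.2.some (ψ U.1) (ψ' U.1) (χ U.1))
    refine Eq.trans ?_ (HomOn.glue_app hcomp hU le_top U le_rfl z).symm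
    rw [HomOn.ofLinear_app_self]
  haveI : IsIso Ψ := EGA73.isIso_of_bijective_cover Ψ (fun U : ι => U.1.1) (fun U => U.1.2) hcov hΨ
  exact ⟨asIso Ψ⟩

end Groth.Agent.PDual19
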