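import Groth.Agent.PDual19.ExtAux
import Groth.Agent.CAlg1.Regular
import Groth.Agent.Ega11.RegLocal
import Groth.Agent.Gor18.Regular
import Mathlib.Algebra.Category.ModuleCat.Ext.HasExt
import Mathlib.Algebra.Category.ModuleCat.Abelian
import Mathlib.RingTheory.Regular.RegularSequence
import Mathlib.Algebra.Homology.DerivedCategory.Ext.EnoughProjectives

/-!
# Top `Ext` out of the quotient by a regular sequence
-/

universe u

open CategoryTheory Limits Abelian

set_option autoImplicit false

noncomputable section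

namespace Groth.Agent.PDual19.ExtQuot

variable {R : Type u} [CommRing R]

/-- The ideal of the first `i` terms. -/
def I (x : ℕ → R) (i : ℕ) : Ideal R := Ideal.span (x '' Set.Iio i)

theorem I_succ (x : ℕ → R) (i : ℕ) : I x (i + 1) = I x i ⊔ Ideal.span {x i} := by
  rw [I, I, ← Ideal.span_union]
  congr 1
  ext a
  constructor
  · rintro ⟨j, hj, rfl⟩
    rcases (Nat.lt_succ_iff.mp hj).lt_or_eq with h | rfl
    · exact Or.inl ⟨j, h, rfl⟩
    · exact Or.inr rfl
  · rintro (⟨j, hj, rfl⟩ | rfl)
    · exact ⟨j, Nat.lt_succ_of_lt hj, rfl⟩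
    · exact ⟨i, Nat.lt_succ_self i, rfl⟩

theorem I_zero (x : ℕ → R) : I x 0 = ⊥ := by
  simp [I]

/-- `x` is a weakly regular sequence up to `n`. -/
def Reg (x : ℕ → R) (n : ℕ) : Prop := ∀ i < n, ∀ a, x i * a ∈ I x i → a ∈ I x i

/-- The quotient object. -/
abbrev Q (x : ℕ → R) (i : ℕ) : ModuleCat.{u} R := ModuleCat.of R (R ⧸ I x i)

theorem le_succ (x : ℕ → R) (i : ℕ) : I x i ≤ I x (i + 1) := by
  rw [I_succ]; exact le_sup_left

theorem smulId_apply (x : ℕ → R) (i : ℕ) (m : R ⧸ I x i) : (x i • 𝟙 (Q x i)).hom m = x i • m := rfl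

/-- Multiplication by the next term. -/
abbrev stepSC (x : ℕ → R) (i : ℕ) : ShortComplex (ModuleCat.{u} R) :=
  ShortComplex.mk (X₁ := Q x i) (X₂ := Q x i) (X₃ := Q x (i + 1)) (x i • 𝟙 (Q x i))
    (ModuleCat.ofHom (Submodule.factor (le_succ x i)))
    (by
      refine ModuleCat.hom_ext (LinearMap.ext fun m => ?_)
      obtain ⟨m, rfl⟩ := Submodule.Quotient.mk_surjective _ m
      change Submodule.factor (le_succ x i) ((x i • 𝟙 (Q x i)).hom (Submodule.Quotient.mk m)) = 0
      rw [smulId_apply]
      rw [← Submodule.Quotient.mk_smul]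
      refine (Submodule.Quotient.mk_eq_zero _).mpr ?_
      rw [I_succ, smul_eq_mul]
      exact Ideal.mul_mem_right _ _ (Ideal.mem_sup_right (Ideal.mem_span_singleton_self _)))

theorem stepSC_shortExact (x : ℕ → R) (i : ℕ) (h : ∀ a, x i * a ∈ I x i → a ∈ I x i) :
    (stepSC x i).ShortExact where
  exact := by
    rw [ShortComplex.ShortExact.moduleCat_exact_iff_function_exact]
    intro m
    obtain ⟨m, rfl⟩ := Submodule.Quotient.mk_surjective _ m
    change Submodule.factor (le_succ x i) (Submodule.Quotient.mk m) = 0 ↔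
      Submodule.Quotient.mk m ∈ Set.range (x i • 𝟙 (Q x i)).hom
    refine (Submodule.Quotient.mk_eq_zero _).trans ?_
    rw [I_succ]
    constructor
    · intro hm
      obtain ⟨a, ha, b, hb, rfl⟩ := Submodule.mem_sup.mp hm
      obtain ⟨c, rfl⟩ := Ideal.mem_span_singleton'.mp hb
      refine ⟨Submodule.Quotient.mk c, ?_⟩
      rw [smulId_apply, ← Submodule.Quotient.mk_smul, Submodule.Quotient.eq]
      have : x i • c - (a + c * x i) = -a := by rw [smul_eq_mul]; ring
      rw [this]
      exact neg_mem ha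
    · rintro ⟨c, hc⟩
      obtain ⟨c, rfl⟩ := Submodule.Quotient.mk_surjective _ c
      rw [smulId_apply, ← Submodule.Quotient.mk_smul, Submodule.Quotient.eq, smul_eq_mul] at hc
      have : m = x i * c - (x i * c - m) := by ring
      rw [this]
      exact Submodule.sub_mem _ (Ideal.mul_mem_right _ _ (Ideal.mem_sup_right (Ideal.mem_span_singleton_self _)))
        (Ideal.mem_sup_left hc)
  mono_f := by
    refine (ModuleCat.mono_iff_injective _).mpr ((injective_iff_map_eq_zero _).mpr fun m hm => ?_)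
    obtain ⟨m, rfl⟩ := Submodule.Quotient.mk_surjective _ m
    change (x i • 𝟙 (Q x i)).hom (Submodule.Quotient.mk m) = 0 at hm
    rw [smulId_apply, ← Submodule.Quotient.mk_smul, Submodule.Quotient.mk_eq_zero] at hm
    exact (Submodule.Quotient.mk_eq_zero _).mpr (h m hm)
  epi_g := by
    refine (ModuleCat.epi_iff_surjective _).mpr fun m => ?_
    obtain ⟨m, rfl⟩ := Submodule.Quotient.mk_surjective _ m
    exact ⟨Submodule.Quotient.mk m, rfl⟩

/-- The top `Ext` is `M / I M`, and the higher ones vanish. -/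
theorem exists_surjective (x : ℕ → R) (n : ℕ) (hx : Reg x n) (M : ModuleCat.{u} R) : ∀ i, i ≤ n →
    (∀ q, i < q → Subsingleton (Ext (Q x i) M q)) ∧
      ∃ f : M →ₗ[R] Ext (Q x i) M i, Function.Surjective f ∧ LinearMap.ker f = I x i • (⊤ : Submodule R M) := by
  intro i
  induction i with
  | zero =>
    intro _
    let e : (R ⧸ I x 0) ≃ₗ[R] R := Submodule.quotEquivOfEqBot _ (I_zero x)
    haveI : Module.Projective R (R ⧸ I x 0) := Module.Projective.of_equiv e.symm
    haveI : Projective (Q x 0) := ModuleCat.projective_of_categoryTheory_projective _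
    refine ⟨fun q hq => ?_, ?_⟩
    · obtain ⟨q', rfl⟩ : ∃ q', q = q' + 1 := ⟨q - 1, by omega⟩
      exact subsingleton_of_forall_eq 0 fun y => Ext.eq_zero_of_projective y
    · let f : M ≃ₗ[R] Ext (Q x 0) M 0 :=
        (((LinearMap.ringLmapEquivSelf R R M).symm.trans (e.symm.arrowCongr (LinearEquiv.refl R M))).trans
          (ModuleCat.homLinearEquiv (S := R) (M := Q x 0) (N := M)).symm).trans Ext.linearEquiv₀.symm
      refine ⟨f.toLinearMap, f.surjective, ?_⟩
      rw [I_zero, Submodule.bot_smul, LinearMap.ker_eq_bot]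
      exact f.injective
  | succ i IH =>
    intro hi
    obtain ⟨hvan, f, hf, hker⟩ := IH (by omega)
    have hS := stepSC_shortExact x i (hx i (by omega))
    refine ⟨fun q hq => ?_, ?_⟩
    · obtain ⟨q', rfl⟩ : ∃ q', q = q' + 1 := ⟨q - 1, by omega⟩
      haveI : Subsingleton (Ext (stepSC x i).X₁ M q') := hvan q' (by omega)
      haveI : Subsingleton (Ext (stepSC x i).X₂ M (q' + 1)) := hvan (q' + 1) (by omega)
      exact (surjective_extδ R hS M (Nat.add_comm 1 q')).subsingleton
    · haveI : Subsingleton (Ext (stepSC x i).X₂ M (i + 1)) := hvan (i + 1) (Nat.lt_succ_self i)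
      refine ⟨(extδ R hS M (Nat.add_comm 1 i)).comp f, (surjective_extδ R hS M (Nat.add_comm 1 i)).comp hf, ?_⟩
      have hsm : ∀ y : Ext (Q x i) M i, (Ext.mk₀ (stepSC x i).f).comp y (zero_add i) = x i • y := fun y => by
        change (Ext.mk₀ (x i • 𝟙 (Q x i))).comp y (zero_add i) = _
        rw [Ext.mk₀_smul, Ext.smul_comp, Ext.mk₀_id_comp]
      rw [I_succ, Submodule.sup_smul]
      apply le_antisymm
      · intro m hm
        obtain ⟨y, hy⟩ := Ext.contravariant_sequence_exact₁ hS M (f m) (Nat.add_comm 1 i) hm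
        obtain ⟨m', rfl⟩ := hf y
        have h2 : m - x i • m' ∈ LinearMap.ker f := by
          rw [LinearMap.mem_ker, map_sub, map_smul]
          exact sub_eq_zero.mpr (hy.symm.trans (hsm _))
        rw [hker] at h2
        rw [← sub_add_cancel m (x i • m')]
        exact Submodule.add_mem_sup h2 (Submodule.smul_mem_smul (Ideal.mem_span_singleton_self _) trivial)
      · refine sup_le (hker ▸ fun m hm => ?_) (Submodule.smul_le.mpr fun r hr m _ => ?_)
        · rw [LinearMap.mem_ker] at hm ⊢
          change extδ R hS M (Nat.add_comm 1 i) (f m) = 0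
          rw [hm, map_zero]
        · obtain ⟨c, rfl⟩ := Ideal.mem_span_singleton'.mp hr
          rw [LinearMap.mem_ker]
          change extδ R hS M (Nat.add_comm 1 i) (f ((c * x i) • m)) = 0
          rw [mul_smul, map_smul f, map_smul f, ← hsm (f m), map_smul, extδ_apply]
          erw [hS.extClass_comp_assoc]
          rw [smul_zero]

/-- `Ext^n(R/(x₁,…,x_n), M) = M/(x₁,…,x_n)M`. -/
theorem nonempty_ext_equiv (x : ℕ → R) (n : ℕ) (hx : Reg x n) (M : ModuleCat.{u} R) :
    Nonempty (Ext (Q x n) M n ≃ₗ[R] (M : Type u) ⧸ (I x n • (⊤ : Submodule R M))) := by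
  obtain ⟨-, f, hf, hker⟩ := exists_surjective x n hx M n le_rfl
  exact ⟨(f.quotKerEquivOfSurjective hf).symm.trans (Submodule.quotEquivOfEq _ _ hker)⟩

open IsLocalRing in
/-- A regular system of parameters. -/
theorem exists_regular_system (d : ℕ) : ∀ (A : Type u) [CommRing A] [IsRegularLocalRing A],
    ringKrullDim A = d → ∃ x : ℕ → A, Reg x d ∧ I x d = maximalIdeal A := by
  induction d with
  | zero =>
    intro A _ _ hd
    have h1 : ((maximalIdeal A).spanFinrank : WithBot ℕ∞) = ringKrullDim A := IsRegularLocalRing.spanFinrank_maximalIdeal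
    rw [hd] at h1
    have h2 : (maximalIdeal A).spanFinrank = 0 := by exact_mod_cast h1
    exact ⟨fun _ => 0, fun i hi => absurd hi (Nat.not_lt_zero i),
      (I_zero _).trans ((Submodule.spanFinrank_eq_zero_iff_eq_bot (IsNoetherian.noetherian _)).1 h2).symm⟩
  | succ d ih =>
    intro A _ _ hd
    haveI : IsDomain A := Ega11.RegLocal.isDomain A
    obtain ⟨x₀, hx, hx2⟩ : ∃ x₀ ∈ maximalIdeal A, x₀ ∉ maximalIdeal A ^ 2 := by
      by_contra h
      push Not at h
      have hbot : maximalIdeal A = ⊥ := by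
        refine Submodule.eq_bot_of_le_smul_of_le_jacobson_bot (maximalIdeal A) _
          (IsNoetherian.noetherian _) ?_ (maximalIdeal_le_jacobson _)
        rwa [smul_eq_mul, ← sq]
      have h1 : ringKrullDim A = 0 := ringKrullDim_eq_zero_of_isField (IsLocalRing.isField_iff_maximalIdeal_eq.2 hbot)
      rw [hd, Nat.cast_succ] at h1
      norm_cast at h1
    have hx0 : x₀ ≠ 0 := fun h => hx2 (h ▸ zero_mem _)
    obtain ⟨hR, hdR⟩ := Ega11.RegLocal.regular_quotient hx hx2
    rw [hd, Nat.cast_succ] at hdR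
    obtain ⟨y, hy, hym⟩ := ih _ (Gor18.exists_regular_sequence_of_gor.ringKrullDim_add_one_cancel hdR)
    choose z hz using fun i => Ideal.Quotient.mk_surjective (y i)
    let x : ℕ → A := fun i => Nat.casesOn i x₀ z
    have hI : ∀ i, I x (i + 1) = (I y i).comap (Ideal.Quotient.mk (Ideal.span {x₀})) := fun i => by
      have h1 : (I x (i + 1)).map (Ideal.Quotient.mk (Ideal.span {x₀})) = I y i := by
        rw [I, I, Ideal.map_span]
        apply le_antisymm
        · refine Ideal.span_le.mpr ?_
          rintro _ ⟨_, ⟨j, hj, rfl⟩, rfl⟩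
          rcases j with _ | j
          · exact (Ideal.Quotient.eq_zero_iff_mem.mpr (Ideal.mem_span_singleton_self x₀)).symm ▸ zero_mem _
          · exact Ideal.subset_span ⟨j, Nat.succ_lt_succ_iff.mp hj, (hz j).symm⟩
        · refine Ideal.span_mono ?_
          rintro _ ⟨j, hj, rfl⟩
          exact ⟨x (j + 1), ⟨j + 1, Nat.succ_lt_succ hj, rfl⟩, hz j⟩
      rw [← h1, Ideal.comap_map_of_surjective _ Ideal.Quotient.mk_surjective, ← RingHom.ker_eq_comap_bot,
        Ideal.mk_ker, left_eq_sup, Ideal.span_le, Set.singleton_subset_iff]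
      exact Ideal.subset_span ⟨0, Nat.succ_pos i, rfl⟩
    refine ⟨x, fun i hi a ha => ?_, ?_⟩
    · rcases i with _ | i
      · rw [I_zero, Ideal.mem_bot] at ha ⊢
        exact (mul_eq_zero.mp ha).resolve_left hx0
      · rw [hI, Ideal.mem_comap] at ha ⊢
        rw [map_mul, show x (i + 1) = z i from rfl, hz] at ha
        exact hy i (by omega) _ ha
    · rw [hI, hym, CAlg1.comap_maximalIdeal_of_surjective _ Ideal.Quotient.mk_surjective]

end Groth.Agent.PDual19.ExtQuot
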