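import Groth.Agent.GSS45.ClosedSS
import Mathlib.CategoryTheory.Adjunction.Restrict

/-!
# `ι_* ⊣ 𝓗om(ι_* O_X, -)` for a closed immersion
-/

set_option autoImplicit false
set_option backward.isDefEq.respectTransparency false

noncomputable section

universe u

open CategoryTheory Limits AlgebraicGeometry TopologicalSpace Opposite
open Groth.Agent.QC70

namespace Groth.Agent.PDual19

open GSS45 GSS45.ClosedHom

variable {X P : Scheme.{u}} (i : X ⟶ P) [IsClosedImmersion i]

/-- Tensoring a direct image with `ι_* O_X` changes nothing. -/
def pushTR : Scheme.Modules.pushforward i ⋙ Mod48.tR (O := P.sheaf) ((Scheme.Modules.pushforward i).obj (Coh.structureModule X)) ≅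
    Scheme.Modules.pushforward i := by
  let p := Scheme.Modules.pushforward i
  let T : X.Modules ⥤ P.Modules := p ⋙ Mod48.tR (O := P.sheaf) (p.obj (Coh.structureModule X))
  have hu : ∀ F, IsIso ((Functor.whiskerLeft T (Scheme.Modules.pullbackPushforwardAdjunction i).unit).app F) := fun F => by
    have := full_pushforward i
    have := QC70.faithful_pushforward i
    exact (Scheme.Modules.pullbackPushforwardAdjunction i).isIso_unit_app_of_iso
      (Descend.descIso (isKilled_tens i (Coh.structureModule X) (p.obj F))).symm
  have := NatIso.isIso_of_isIso_app (Functor.whiskerLeft T (Scheme.Modules.pullbackPushforwardAdjunction i).unit)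
  let e : T ⋙ Scheme.Modules.pullback i ≅ 𝟭 X.Modules :=
    Functor.associator _ _ _ ≪≫ Functor.isoWhiskerLeft p (tensPullIso i (Coh.structureModule X)) ≪≫
      (Functor.associator _ _ _).symm ≪≫
      Functor.isoWhiskerRight (counitIso i) _ ≪≫ Functor.leftUnitor _ ≪≫
      (Mod48.tensSymm (O := X.sheaf) (Coh.structureModule X)).symm ≪≫ Mod48.tensUnit
  exact T.rightUnitor.symm ≪≫
    asIso (Functor.whiskerLeft T (Scheme.Modules.pullbackPushforwardAdjunction i).unit) ≪≫
    (Functor.associator _ _ _).symm ≪≫ Functor.isoWhiskerRight e p ≪≫ p.leftUnitor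

/-- The adjunction. -/
def wAdj : Scheme.Modules.pushforward i ⊣ W i (Coh.structureModule X) :=
  have := full_pushforward i
  have := QC70.faithful_pushforward i
  (homModAdjR ((Scheme.Modules.pushforward i).obj (Coh.structureModule X))).restrictFullyFaithful
    (Functor.FullyFaithful.ofFullyFaithful (Scheme.Modules.pushforward i)) (Functor.FullyFaithful.id P.Modules)
    (pushTR i ≪≫ (Functor.rightUnitor _).symm)
    (Functor.leftUnitor _ ≪≫ (wPushIso i (Coh.structureModule X)).symm)

theorem isZero_W_rightDerived (G : P.Modules)
    [ModSite.HasSheafHom (O := P.sheaf) ((Scheme.Modules.pushforward i).obj (Coh.structureModule X))]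
    [HasInjectiveResolutions (ModSite.Mod P.sheaf)] (q : ℕ)
    (hz : IsZero ((ModSite.extSh (O := P.sheaf) ((Scheme.Modules.pushforward i).obj (Coh.structureModule X)) q).obj G)) :
    have : HasInjectiveResolutions P.Modules := ‹HasInjectiveResolutions (ModSite.Mod P.sheaf)›
    IsZero (((W i (Coh.structureModule X)).rightDerived q).obj G) := by
  have : HasInjectiveResolutions P.Modules := ‹HasInjectiveResolutions (ModSite.Mod P.sheaf)›
  have := preservesFiniteLimits_pushforward i
  have := preservesFiniteColimits_pushforward i
  have := full_pushforward i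
  have := QC70.faithful_pushforward i
  let p := Scheme.Modules.pushforward i
  let T : P.Modules ⥤ P.Modules := ModSite.sheafHom (O := P.sheaf) (p.obj (Coh.structureModule X))
  have : T.Additive :=
    have := (homModAdj (p.obj (Coh.structureModule X))).right_adjoint_additive
    Functor.additive_of_iso (sheafHomIso' (p.obj (Coh.structureModule X))).symm
  let e : W i (Coh.structureModule X) ⋙ p ≅ T := wPushIso i _ ≪≫ (sheafHomIso' _).symm
  have hp : IsZero (p.obj (((W i (Coh.structureModule X)).rightDerived q).obj G)) :=
    hz.of_iso (((SiteCoh.rightDerivedCompExactIso (W i (Coh.structureModule X)) p q).symm ≪≫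
      rightDerivedIsoOfIso e q).app G)
  rw [IsZero.iff_id_eq_zero] at hp ⊢
  exact p.map_injective (by rw [p.map_id, p.map_zero, hp])

/-- `ω ≅ R^c W` when `ι_* ω` is the Ext sheaf. -/
theorem nonempty_W_iso (G : P.Modules)
    [ModSite.HasSheafHom (O := P.sheaf) ((Scheme.Modules.pushforward i).obj (Coh.structureModule X))]
    [HasInjectiveResolutions (ModSite.Mod P.sheaf)] (q : ℕ) (M : X.Modules)
    (hM : Nonempty ((Scheme.Modules.pushforward i).obj M ≅
      (ModSite.extSh (O := P.sheaf) ((Scheme.Modules.pushforward i).obj (Coh.structureModule X)) q).obj G)) :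
    have : HasInjectiveResolutions P.Modules := ‹HasInjectiveResolutions (ModSite.Mod P.sheaf)›
    Nonempty (((W i (Coh.structureModule X)).rightDerived q).obj G ≅ M) := by
  have : HasInjectiveResolutions P.Modules := ‹HasInjectiveResolutions (ModSite.Mod P.sheaf)›
  have := preservesFiniteLimits_pushforward i
  have := preservesFiniteColimits_pushforward i
  have := full_pushforward i
  have := QC70.faithful_pushforward i
  let p := Scheme.Modules.pushforward i
  let T : P.Modules ⥤ P.Modules := ModSite.sheafHom (O := P.sheaf) (p.obj (Coh.structureModule X))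
  have : T.Additive :=
    have := (homModAdj (p.obj (Coh.structureModule X))).right_adjoint_additive
    Functor.additive_of_iso (sheafHomIso' (p.obj (Coh.structureModule X))).symm
  let e : W i (Coh.structureModule X) ⋙ p ≅ T := wPushIso i _ ≪≫ (sheafHomIso' _).symm
  obtain ⟨e'⟩ := hM
  exact ⟨p.preimageIso (((SiteCoh.rightDerivedCompExactIso (W i (Coh.structureModule X)) p q).symm ≪≫
    rightDerivedIsoOfIso e q).app G ≪≫ e'.symm)⟩

end Groth.Agent.PDual19
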