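import Groth.Agent.RD97.LES
import Mathlib.Algebra.Homology.DerivedCategory.Ext.EnoughInjectives
import Mathlib.Algebra.Homology.DerivedCategory.Ext.ExactSequences
import Mathlib.CategoryTheory.Adjunction.Additive

/-!
# The first non-zero higher right adjoint

For `p ⊣ W` with `p` preserving monomorphisms, if `W G` is injective and `R^j W G = 0` for `1 ≤ j < c`
then `Hom(F, R^c W G) = Ext^c(p F, G)` through a universal class.
-/

universe w v₁ v₂ u₁ u₂

open CategoryTheory Limits Abelian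

set_option autoImplicit false
set_option maxHeartbeats 400000

noncomputable section

namespace Groth.Agent.PDual19

variable {C : Type u₁} [Category.{v₁} C] [Abelian C] [EnoughInjectives C] [HasExt.{w} C]
  {D : Type u₂} [Category.{v₂} D] [Abelian D] {p : D ⥤ C} {W : C ⥤ D}

/-- The standard injective cosyzygy sequence. -/
abbrev cosyz (G : C) : ShortComplex C :=
  ShortComplex.mk (Injective.ι G) (cokernel.π (Injective.ι G)) (cokernel.condition _)

theorem cosyz_shortExact (G : C) : (cosyz G).ShortExact :=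
  { exact := ShortComplex.exact_of_g_is_cokernel _ (cokernelIsCokernel _)
    mono_f := inferInstanceAs (Mono (Injective.ι G))
    epi_g := inferInstanceAs (Epi (cokernel.π _)) }

variable (adj : p ⊣ W) [p.PreservesMonomorphisms] [W.Additive]
include adj

/-- The first derived functor and the image of `W` of the cosyzygy map. -/
theorem exists_split (G : C) (hG : Injective (W.obj G)) :
    ∃ (K : D) (ι : K ⟶ W.obj (cosyz G).X₃) (δ : W.obj (cosyz G).X₃ ⟶ (W.rightDerived 1).obj G)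
      (g' : W.obj (cosyz G).X₂ ⟶ K) (s : K ⟶ W.obj (cosyz G).X₂) (σ : (W.rightDerived 1).obj G ⟶ W.obj (cosyz G).X₃),
      Injective K ∧ g' ≫ ι = W.map (cosyz G).g ∧ W.map (cosyz G).g ≫ δ = 0 ∧ s ≫ g' = 𝟙 K ∧ σ ≫ δ = 𝟙 _ ∧
      ∀ {A : D} (f : A ⟶ W.obj (cosyz G).X₃), f ≫ δ = 0 → ∃ f' : A ⟶ K, f' ≫ ι = f := by
  haveI : PreservesFiniteLimits W :=
    haveI := adj.rightAdjoint_preservesLimits.{0, 0}
    Limits.PreservesLimitsOfSize0.preservesFiniteLimits _
  obtain ⟨Δ⟩ := RD97.nonempty_derivedLES W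
  let S := cosyz G
  have hS : S.ShortExact := cosyz_shortExact G
  haveI hI : Injective S.X₂ := inferInstanceAs (Injective (Injective.under G))
  haveI hWI : Injective (W.obj S.X₂) := Injective.injective_of_adjoint adj S.X₂
  let η := W.rightDerivedZeroIsoSelf
  let δ : W.obj S.X₃ ⟶ (W.rightDerived 1).obj G := (η.app S.X₃).inv ≫ Δ.δ S hS 0 1 rfl
  have hΔ : Epi (Δ.δ S hS 0 1 rfl) :=
    (Δ.exact₁ S hS 0 1 rfl).epi_f ((W.isZero_rightDerived_obj_injective_succ 0 S.X₂).eq_of_tgt _ _)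
  haveI : Epi δ := @epi_comp _ _ _ _ _ (η.app S.X₃).inv inferInstance (Δ.δ S hS 0 1 rfl) hΔ
  have hgδ : W.map S.g ≫ δ = 0 := by
    change W.map S.g ≫ η.inv.app S.X₃ ≫ _ = 0
    rw [← Category.assoc]
    refine (congrArg (· ≫ _) (η.inv.naturality S.g)).trans ?_
    rw [Category.assoc]
    exact (congrArg (_ ≫ ·) (Δ.comp_δ S hS 0 1 rfl)).trans comp_zero
  let g' : W.obj S.X₂ ⟶ kernel δ := kernel.lift δ (W.map S.g) hgδ
  have hS₂ : (ShortComplex.mk (kernel.ι δ) δ (kernel.condition δ)).ShortExact :=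
    { exact := ShortComplex.exact_of_f_is_kernel _ (kernelIsKernel δ) }
  have hex : (ShortComplex.mk (W.map S.g) δ hgδ).Exact := by
    refine ShortComplex.exact_of_iso ?_ (Δ.exact₃ S hS 0 1 rfl)
    refine ShortComplex.isoMk (η.app S.X₂) (η.app S.X₃) (Iso.refl _) (η.hom.naturality S.g).symm ?_
    change (η.app S.X₃).hom ≫ δ = Δ.δ S hS 0 1 rfl ≫ 𝟙 _
    rw [Category.comp_id]
    exact Iso.hom_inv_id_assoc (η.app S.X₃) _
  haveI : Epi g' := hex.epi_kernelLift
  have hf0 : W.map S.f ≫ g' = 0 := by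
    rw [← cancel_mono (kernel.ι δ), Category.assoc, kernel.lift_ι, zero_comp, ← Functor.map_comp, S.zero,
      Functor.map_zero]
  have hS₁ : (ShortComplex.mk (W.map S.f) g' hf0).ShortExact := by
    haveI := hS.mono_f
    haveI : Mono (W.map S.f) := inferInstance
    refine { exact := ?_, epi_g := ‹Epi g'› }
    let Φ : ShortComplex.mk (W.map S.f) g' hf0 ⟶ S.map W :=
      { τ₁ := 𝟙 _, τ₂ := 𝟙 _, τ₃ := kernel.ι δ,
        comm₁₂ := (Category.id_comp _).trans (Category.comp_id _).symm, comm₂₃ := (Category.id_comp _).trans (kernel.lift_ι _ _ _).symm }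
    haveI : Epi Φ.τ₁ := inferInstanceAs (Epi (𝟙 _))
    haveI : IsIso Φ.τ₂ := inferInstanceAs (IsIso (𝟙 _))
    haveI : Mono Φ.τ₃ := inferInstanceAs (Mono (kernel.ι δ))
    exact (ShortComplex.exact_iff_of_epi_of_isIso_of_mono Φ).2
      (((Functor.preservesFiniteLimits_iff_forall_exact_map_and_mono _).mp inferInstance) S hS).1
  haveI : Injective (ShortComplex.mk (W.map S.f) g' hf0).X₁ := hG
  let sp₁ := hS₁.splittingOfInjective
  have hK : Injective (kernel δ) :=
    ⟨fun {X Y} g f _ => ⟨Injective.factorThru (g ≫ sp₁.s) f ≫ g', by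
      rw [← Category.assoc, Injective.comp_factorThru, Category.assoc]
      exact (congrArg (g ≫ ·) sp₁.s_g).trans (Category.comp_id g)⟩⟩
  haveI : Injective (ShortComplex.mk (kernel.ι δ) δ (kernel.condition δ)).X₁ := hK
  let sp₂ := hS₂.splittingOfInjective
  exact ⟨kernel δ, kernel.ι δ, δ, g', sp₁.s, sp₂.s, hK, kernel.lift_ι _ _ _, hgδ, sp₁.s_g, sp₂.s_g,
    fun f hf => ⟨kernel.lift δ f hf, kernel.lift_ι _ _ _⟩⟩

/-- The case of the first derived functor. -/
theorem exists_eta_one (G : C) (hG : Injective (W.obj G)) :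
    ∃ η : Ext (p.obj ((W.rightDerived 1).obj G)) G 1, ∀ F : D,
      Function.Bijective (fun φ : F ⟶ (W.rightDerived 1).obj G => (Ext.mk₀ (p.map φ)).comp η (zero_add 1)) := by
  obtain ⟨K, ι, δ, g', s, σ, -, hι, hgδ, hs, hσ, hlift⟩ := exists_split adj G hG
  let hS := cosyz_shortExact G
  refine ⟨(Ext.mk₀ ((adj.homEquiv _ _).symm σ)).comp hS.extClass (zero_add 1), fun F => ?_⟩
  have key : ∀ φ : F ⟶ (W.rightDerived 1).obj G,
      (Ext.mk₀ (p.map φ)).comp ((Ext.mk₀ ((adj.homEquiv _ _).symm σ)).comp hS.extClass (zero_add 1)) (zero_add 1) =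
        (Ext.mk₀ ((adj.homEquiv _ _).symm (φ ≫ σ))).comp hS.extClass (zero_add 1) := fun φ => by
    rw [Ext.mk₀_comp_mk₀_assoc, Adjunction.homEquiv_naturality_left_symm]
  refine ⟨fun φ φ' hφ => ?_, fun x => ?_⟩
  · dsimp only at hφ
    rw [key, key] at hφ
    have h0 : (Ext.mk₀ ((adj.homEquiv _ _).symm (φ ≫ σ) - (adj.homEquiv _ _).symm (φ' ≫ σ))).comp hS.extClass
        (zero_add 1) = 0 := by
      rw [sub_eq_add_neg, Ext.mk₀_add, Ext.add_comp, Ext.mk₀_neg, Ext.neg_comp, hφ, add_neg_cancel]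
    obtain ⟨z, hz⟩ := Ext.covariant_sequence_exact₃ (p.obj F) hS _ rfl h0
    obtain ⟨χ, rfl⟩ := Ext.addEquiv₀.symm.surjective z
    have hχ : χ ≫ (cosyz G).g = (adj.homEquiv _ _).symm (φ ≫ σ) - (adj.homEquiv _ _).symm (φ' ≫ σ) :=
      Ext.addEquiv₀.symm.injective ((Ext.mk₀_comp_mk₀ χ (cosyz G).g).symm.trans hz)
    haveI := adj.left_adjoint_additive
    have h1 : φ ≫ σ - φ' ≫ σ = adj.homEquiv _ _ χ ≫ W.map (cosyz G).g := by
      rw [← Adjunction.homEquiv_naturality_right, hχ, Adjunction.homEquiv_unit, Functor.map_sub,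
        Preadditive.comp_sub, ← Adjunction.homEquiv_unit, ← Adjunction.homEquiv_unit, Equiv.apply_symm_apply,
        Equiv.apply_symm_apply]
    have h2 := congrArg (· ≫ δ) h1
    simp only [Preadditive.sub_comp, Category.assoc, hσ, hgδ, Category.comp_id, comp_zero] at h2
    exact sub_eq_zero.mp h2
  · haveI : Injective (cosyz G).X₂ := inferInstanceAs (Injective (Injective.under G))
    obtain ⟨y, hy⟩ := Ext.covariant_sequence_exact₁ (p.obj F) hS x (Ext.eq_zero_of_injective _) rfl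
    obtain ⟨ψ', rfl⟩ := Ext.addEquiv₀.symm.surjective y
    obtain ⟨ψ, rfl⟩ := (adj.homEquiv _ _).symm.surjective ψ'
    refine ⟨ψ ≫ δ, (key _).trans ?_⟩
    obtain ⟨d', hd'⟩ := hlift (ψ - (ψ ≫ δ) ≫ σ) (by simp [hσ])
    haveI := adj.left_adjoint_additive
    have h2 : (adj.homEquiv _ _).symm ψ - (adj.homEquiv _ _).symm ((ψ ≫ δ) ≫ σ) =
        (adj.homEquiv _ _).symm (d' ≫ s) ≫ (cosyz G).g := by
      have e : (d' ≫ s) ≫ W.map (cosyz G).g = ψ - (ψ ≫ δ) ≫ σ := by
        rw [← hι, Category.assoc, ← Category.assoc s g' ι, hs, Category.id_comp, hd']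
      rw [← Adjunction.homEquiv_naturality_right_symm, e, Adjunction.homEquiv_counit, Adjunction.homEquiv_counit, Adjunction.homEquiv_counit,
        Functor.map_sub, Preadditive.sub_comp]
    rw [← hy, eq_comm, ← sub_eq_zero]
    change (Ext.mk₀ _).comp hS.extClass _ - (Ext.mk₀ _).comp hS.extClass _ = 0
    rw [sub_eq_add_neg, ← Ext.neg_comp, ← Ext.add_comp, ← Ext.mk₀_neg, ← Ext.mk₀_add, ← sub_eq_add_neg, h2,
      ← Ext.mk₀_comp_mk₀, Ext.comp_assoc_of_second_deg_zero, hS.comp_extClass, Ext.comp_zero]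

/-- `Hom(F, R^c W G) = Ext^c(p F, G)` through a universal class. -/
theorem exists_eta (c : ℕ) : ∀ G : C, Injective (W.obj G) →
    (∀ j, 1 ≤ j → j < c + 1 → IsZero ((W.rightDerived j).obj G)) →
    ∃ η : Ext (p.obj ((W.rightDerived (c + 1)).obj G)) G (c + 1), ∀ F : D,
      Function.Bijective (fun φ : F ⟶ (W.rightDerived (c + 1)).obj G =>
        (Ext.mk₀ (p.map φ)).comp η (zero_add (c + 1))) := by
  induction c with
  | zero => exact fun G hG _ => exists_eta_one adj G hG
  | succ c IH =>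
    intro G hG hvan
    haveI : PreservesFiniteLimits W :=
      haveI := adj.rightAdjoint_preservesLimits.{0, 0}
      Limits.PreservesLimitsOfSize0.preservesFiniteLimits _
    obtain ⟨Δ⟩ := RD97.nonempty_derivedLES W
    let S := cosyz G
    have hS : S.ShortExact := cosyz_shortExact G
    haveI hI : Injective S.X₂ := inferInstanceAs (Injective (Injective.under G))
    have hiso : ∀ j, IsIso (Δ.δ S hS (j + 1) (j + 2) rfl) := fun j => by
      haveI : Epi (Δ.δ S hS (j + 1) (j + 2) rfl) :=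
        (Δ.exact₁ S hS _ _ rfl).epi_f ((W.isZero_rightDerived_obj_injective_succ (j + 1) S.X₂).eq_of_tgt _ _)
      haveI : Mono (Δ.δ S hS (j + 1) (j + 2) rfl) :=
        (Δ.exact₃ S hS _ _ rfl).mono_g ((W.isZero_rightDerived_obj_injective_succ j S.X₂).eq_of_src _ _)
      exact isIso_of_mono_of_epi _
    obtain ⟨K, ι, δ, g', s, σ, hK, hι, -, -, -, hlift⟩ := exists_split adj G hG
    have hδ : δ = 0 := (hvan 1 le_rfl (by omega)).eq_of_tgt _ _
    obtain ⟨r, hr⟩ := hlift (𝟙 _) (by rw [hδ, comp_zero])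
    have hG' : Injective (W.obj S.X₃) :=
      ⟨fun {X Y} g f _ => ⟨Injective.factorThru (g ≫ r) f ≫ ι, by
        rw [← Category.assoc, Injective.comp_factorThru, Category.assoc]
        exact (congrArg (g ≫ ·) hr).trans (Category.comp_id g)⟩⟩
    obtain ⟨η', hη'⟩ := IH S.X₃ hG' fun j hj hjc => by
      obtain ⟨q, rfl⟩ : ∃ q, j = q + 1 := ⟨j - 1, by omega⟩
      haveI := hiso q
      exact (hvan (q + 2) (by omega) (by omega)).of_iso (asIso (Δ.δ S hS (q + 1) (q + 2) rfl))
    haveI := hiso c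
    let d : (W.rightDerived (c + 1)).obj S.X₃ ≅ (W.rightDerived (c + 1 + 1)).obj G :=
      asIso (Δ.δ S hS (c + 1) (c + 2) rfl)
    refine ⟨((Ext.mk₀ (p.map d.inv)).comp η' (zero_add (c + 1))).comp hS.extClass rfl, fun F => ?_⟩
    have hpost : Function.Bijective (fun y : Ext (p.obj F) S.X₃ (c + 1) => y.comp hS.extClass rfl) := by
      refine ⟨fun y y' h => ?_, fun x => Ext.covariant_sequence_exact₁ (p.obj F) hS x (Ext.eq_zero_of_injective _) rfl⟩
      rw [← sub_eq_zero]
      obtain ⟨z, hz⟩ := Ext.covariant_sequence_exact₃ (p.obj F) hS (y - y') rfl (by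
        rw [sub_eq_add_neg, Ext.add_comp, Ext.neg_comp, show y.comp hS.extClass rfl = y'.comp hS.extClass rfl from h,
          add_neg_cancel])
      rw [← hz, Ext.eq_zero_of_injective z, Ext.zero_comp]
    have hd : Function.Bijective (fun φ : F ⟶ (W.rightDerived (c + 1 + 1)).obj G => φ ≫ d.inv) :=
      ⟨fun a b h => (cancel_mono d.inv).1 h, fun b => ⟨b ≫ d.hom, by simp⟩⟩
    convert hpost.comp ((hη' F).comp hd) using 1
    funext φ
    simp only [Function.comp_apply]
    rw [Functor.map_comp, ← Ext.mk₀_comp_mk₀_assoc,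
      ← Ext.comp_assoc (Ext.mk₀ (p.map φ)) ((Ext.mk₀ (p.map d.inv)).comp η' (zero_add (c + 1))) hS.extClass
        (zero_add _) rfl (by omega)]

end Groth.Agent.PDual19
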