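import Groth.Agent.Crv77.HH
import Groth.Agent.SiteCoh.ExtCompare
import Groth.Agent.Coh69.Push
import Groth.Agent.TopCoh49.ClosedPush
import Groth.Agent.SerreD94.Duality
import Groth.Prelude.Def_KLin

/-!
# Cohomology of a direct image along a closed immersion, naturally and linearly
-/

universe u

open CategoryTheory Limits AlgebraicGeometry Opposite Abelian TopologicalSpace

set_option autoImplicit false
set_option backward.isDefEq.respectTransparency.types false

noncomputable section

namespace Groth.Agent.PDual19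

variable {X P : Scheme.{u}} (ι : X ⟶ P)

/-- Sections over the whole space give the universal map of constant sheaves. -/
def srcMap : Crv77.srcObj P ⟶ (Coh.pushAb ι).obj (Crv77.srcObj X) :=
  ((constantSheafAdj (Opens.grothendieckTopology P) AddCommGrpCat.{u} (T := ⊤) isTerminalTop).homEquiv _ _).symm
    ((constantSheafAdj (Opens.grothendieckTopology X) AddCommGrpCat.{u} (T := ⊤) isTerminalTop).unit.app _)

theorem bijective_srcMap (F : Sheaf (Opens.grothendieckTopology X) AddCommGrpCat.{u}) :
    Function.Bijective fun φ : Crv77.srcObj X ⟶ F => srcMap ι ≫ (Coh.pushAb ι).map φ := by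
  let adjP := constantSheafAdj (Opens.grothendieckTopology P) AddCommGrpCat.{u} (T := ⊤) isTerminalTop
  let adjX := constantSheafAdj (Opens.grothendieckTopology X) AddCommGrpCat.{u} (T := ⊤) isTerminalTop
  have h : ∀ φ : Crv77.srcObj X ⟶ F,
      (adjP.homEquiv _ _) (srcMap ι ≫ (Coh.pushAb ι).map φ) = (adjX.homEquiv _ _ φ) := fun φ => by
    rw [Adjunction.homEquiv_naturality_right, srcMap, Equiv.apply_symm_apply, Adjunction.homEquiv_unit]
    rfl
  exact ⟨fun a b e => (adjX.homEquiv _ _).injective ((h a).symm.trans ((congrArg _ e).trans (h b))),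
    fun x => ⟨(adjX.homEquiv _ _).symm (adjP.homEquiv _ _ x),
      (adjP.homEquiv _ _).injective ((h _).trans (Equiv.apply_symm_apply _ _))⟩⟩

variable (k : Type u) [CommRing k] [X.Over (Spec (CommRingCat.of k))] [P.Over (Spec (CommRingCat.of k))]
  [IsClosedImmersion ι] [ι.IsOver (Spec (CommRingCat.of k))]

theorem pushAb_smulAb (F : X.Modules) (a : k) :
    (Coh.pushAb ι).map (Coh.smulAb F (Coh.toGlobal (X ↘ Spec (CommRingCat.of k)) a)) =
      Coh.smulAb ((Scheme.Modules.pushforward ι).obj F) (Coh.toGlobal (P ↘ Spec (CommRingCat.of k)) a) := by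
  ext U m
  change X.presheaf.map (homOfLE (le_top : ι ⁻¹ᵁ U.unop ≤ ⊤)).op (Coh.toGlobal (X ↘ Spec (CommRingCat.of k)) a) •
      (show Γ(F, ι ⁻¹ᵁ U.unop) from m) =
    ι.app U.unop (P.presheaf.map (homOfLE (le_top : U.unop ≤ ⊤)).op (Coh.toGlobal (P ↘ Spec (CommRingCat.of k)) a)) •
      (show Γ(F, ι ⁻¹ᵁ U.unop) from m)
  exact congrArg (· • (show Γ(F, ι ⁻¹ᵁ U.unop) from m)) (KLin.res_toGlobal_eq_app ι a U.unop)

/-- The natural transport of cohomology. -/
def pushH (F : X.Modules) (j : ℕ) : Coh.HH X F j →ₗ[k] Coh.HH P ((Scheme.Modules.pushforward ι).obj F) j :=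
  haveI : (Coh.pushAb ι).Additive := inferInstance
  haveI : PreservesFiniteColimits (Coh.pushAb ι) := TopCoh49.preservesFiniteColimits_push ι.base ι.isClosedEmbedding
  haveI : PreservesFiniteLimits (Coh.pushAb ι) :=
    haveI : PreservesLimitsOfSize.{0, 0} (Coh.pushAb ι) :=
      (TopCat.Sheaf.pullbackPushforwardAdjunction AddCommGrpCat.{u} ι.base).rightAdjoint_preservesLimits
    PreservesLimitsOfSize.preservesFiniteLimits _
  { toFun := fun x => SiteCoh.extTransfer (Coh.pushAb ι) (srcMap ι) (Coh.toAb F) j x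
    map_add' := fun x y => map_add (SiteCoh.extTransfer (Coh.pushAb ι) (srcMap ι) (Coh.toAb F) j) x y
    map_smul' := fun a x => by
      refine (SiteCoh.extTransfer_naturality (Coh.pushAb ι) (srcMap ι) x _).trans ?_
      exact congrArg (fun f => (SiteCoh.extTransfer (Coh.pushAb ι) (srcMap ι) (Coh.toAb F) j x).comp (Ext.mk₀ f) (add_zero j)) (pushAb_smulAb ι k F a) }

theorem bijective_pushH (F : X.Modules) (j : ℕ) : Function.Bijective (pushH ι k F j) := by
  haveI : (Coh.pushAb ι).Additive := inferInstance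
  haveI : PreservesFiniteColimits (Coh.pushAb ι) := TopCoh49.preservesFiniteColimits_push ι.base ι.isClosedEmbedding
  haveI : PreservesFiniteLimits (Coh.pushAb ι) :=
    haveI : PreservesLimitsOfSize.{0, 0} (Coh.pushAb ι) :=
      (TopCat.Sheaf.pullbackPushforwardAdjunction AddCommGrpCat.{u} ι.base).rightAdjoint_preservesLimits
    PreservesLimitsOfSize.preservesFiniteLimits _
  exact SiteCoh.extTransfer_bijective (Coh.pushAb ι) (srcMap ι) (bijective_srcMap ι)
    (fun I hI n => by
      haveI : Injective ((Coh.pushAb ι).obj I) := Coh69.pushSh_injective ι.base I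
      exact Ext.subsingleton_of_injective _ _ n) j (Coh.toAb F)

theorem pushH_natural {F F' : X.Modules} (φ : F ⟶ F') (j : ℕ) (x : Coh.HH X F j) :
    pushH ι k F' j (Crv77.hmap k φ j x) =
      Crv77.hmap k ((Scheme.Modules.pushforward ι).map φ) j (pushH ι k F j x) := by
  haveI : (Coh.pushAb ι).Additive := inferInstance
  haveI : PreservesFiniteColimits (Coh.pushAb ι) := TopCoh49.preservesFiniteColimits_push ι.base ι.isClosedEmbedding
  haveI : PreservesFiniteLimits (Coh.pushAb ι) :=
    haveI : PreservesLimitsOfSize.{0, 0} (Coh.pushAb ι) :=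
      (TopCat.Sheaf.pullbackPushforwardAdjunction AddCommGrpCat.{u} ι.base).rightAdjoint_preservesLimits
    PreservesLimitsOfSize.preservesFiniteLimits _
  exact SiteCoh.extTransfer_naturality (Coh.pushAb ι) (srcMap ι) x _

end Groth.Agent.PDual19
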