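import Groth.Agent.PDual19.Pairing
import Groth.Agent.PDual19.PushH
import Groth.Agent.PDual19.HighAdj
import Groth.Agent.PDual19.FinAdj
import Groth.Agent.PDual19.DualityX
import Groth.Agent.QC70.PushClosed
import Groth.Agent.Serre71.ProjFinite

/-!
# `ℰxt^c(ι_* O_X, ω_P)` is dualising on `X`
-/

universe u

open CategoryTheory Limits AlgebraicGeometry Opposite Abelian

set_option autoImplicit false
set_option maxSynthPendingDepth 6
set_option maxHeartbeats 1000000
set_option synthInstance.maxHeartbeats 400000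
set_option backward.isDefEq.respectTransparency.types false

noncomputable section

namespace Groth.Agent.PDual19

/-- A universal class in every degree. -/
theorem exists_eta' {C D : Type*} [Category C] [Abelian C] [EnoughInjectives C] [HasExt.{u} C] [Category D] [Abelian D]
    {p : D ⥤ C} {W : C ⥤ D} (adj : p ⊣ W) [p.PreservesMonomorphisms] [W.Additive] (c : ℕ) (G : C) (M : D)
    (e : (W.rightDerived c).obj G ≅ M) (hv : ∀ j, j < c → IsZero ((W.rightDerived j).obj G)) :
    ∃ η : Ext (p.obj M) G c, ∀ F : D, Function.Bijective fun φ : F ⟶ M => (Ext.mk₀ (p.map φ)).comp η (zero_add c) := by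
  haveI : PreservesFiniteLimits W :=
    haveI := adj.rightAdjoint_preservesLimits.{0, 0}
    Limits.PreservesLimitsOfSize0.preservesFiniteLimits _
  rcases c with _ | c
  · let e' : M ≅ W.obj G := e.symm ≪≫ W.rightDerivedZeroIsoSelf.app G
    refine ⟨Ext.mk₀ ((adj.homEquiv _ _).symm e'.hom), fun F => ?_⟩
    have h : (fun φ : F ⟶ M => (Ext.mk₀ (p.map φ)).comp (Ext.mk₀ ((adj.homEquiv _ _).symm e'.hom)) (zero_add 0)) =
        Ext.addEquiv₀.symm ∘ (adj.homEquiv _ _).symm ∘ fun φ => φ ≫ e'.hom := funext fun φ => by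
      rw [Ext.mk₀_comp_mk₀, ← Adjunction.homEquiv_naturality_left_symm]
      rfl
    rw [h]
    exact Ext.addEquiv₀.symm.bijective.comp ((adj.homEquiv _ _).symm.bijective.comp
      ⟨fun a b hab => (cancel_mono e'.hom).1 hab, fun b => ⟨b ≫ e'.inv, by simp⟩⟩)
  · have hWG : IsZero (W.obj G) := (hv 0 (Nat.succ_pos c)).of_iso (W.rightDerivedZeroIsoSelf.app G).symm
    obtain ⟨η, hη⟩ := exists_eta adj c G hWG.injective fun j _ hj => hv j hj
    refine ⟨(Ext.mk₀ (p.map e.inv)).comp η (zero_add (c + 1)), fun F => ?_⟩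
    convert (hη F).comp (show Function.Bijective fun φ : F ⟶ M => φ ≫ e.inv from
      ⟨fun a b hab => (cancel_mono e.inv).1 hab, fun b => ⟨b ≫ e.hom, by simp⟩⟩) using 1
    funext φ
    simp only [Function.comp_apply]
    rw [Functor.map_comp, ← Ext.mk₀_comp_mk₀_assoc]

/-- Duality along a closed immersion into projective space. -/
theorem exists_isDualizing (k : Type u) [Field k] (N n c : ℕ) (h : n + c = N) {X : Scheme.{u}}
    [X.Over (Spec (CommRingCat.of k))] (ι : X ⟶ CohB1.ProjSpace N k) [IsClosedImmersion ι]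
    (hι : ι ≫ CohB1.ProjSpace.toSpec N k = X ↘ Spec (CommRingCat.of k))
    [ModSite.HasSheafHom (O := (CohB1.ProjSpace N k).sheaf) ((Scheme.Modules.pushforward ι).obj (Coh.structureModule X))]
    [HasInjectiveResolutions (ModSite.Mod (CohB1.ProjSpace N k).sheaf)]
    (ω : X.Modules)
    (hω : Nonempty ((Scheme.Modules.pushforward ι).obj ω ≅
      (ModSite.extSh (O := (CohB1.ProjSpace N k).sheaf) ((Scheme.Modules.pushforward ι).obj (Coh.structureModule X)) c).obj
        (SerreD94.omega N k)))
    (hv : ∀ j, j < c → IsZero ((ModSite.extSh (O := (CohB1.ProjSpace N k).sheaf)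
      ((Scheme.Modules.pushforward ι).obj (Coh.structureModule X)) j).obj (SerreD94.omega N k))) :
    ∃ t : Coh.HH X ω n →ₗ[k] k, IsDualizing k n ω t := by
  haveI : HasInjectiveResolutions (CohB1.ProjSpace N k).Modules := ‹HasInjectiveResolutions (ModSite.Mod _)›
  haveI : EnoughInjectives (CohB1.ProjSpace N k).Modules := GSS45.enoughInjectives_of_resolutions
  haveI : HasExt.{u} (CohB1.ProjSpace N k).Modules := hasExt_of_enoughInjectives _
  haveI : ι.IsOver (Spec (CommRingCat.of k)) := ⟨hι⟩
  haveI := GSS45.ClosedHom.preservesFiniteLimits_pushforward ι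
  haveI : (Scheme.Modules.pushforward ι).PreservesMonomorphisms := preservesMonomorphisms_of_preservesLimitsOfShape _
  obtain ⟨e⟩ := nonempty_W_iso ι (SerreD94.omega N k) c ω hω
  obtain ⟨η, hη⟩ := exists_eta' (wAdj ι) c (SerreD94.omega N k) ω e
    fun j hj => isZero_W_rightDerived ι _ j (hv j hj)
  refine ⟨(psi N k h η).comp (pushH ι k ω n), fun F hF ψ => ?_⟩
  haveI := hF.1
  haveI := hF.2
  haveI := Serre71.isProper_projSpace N k
  haveI : IsLocallyNoetherian (CohB1.ProjSpace N k) :=
    LocallyOfFiniteType.isLocallyNoetherian (CohB1.ProjSpace.toSpec N k)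
  have hbij : Function.Bijective fun φ : F ⟶ ω =>
      (LinearEquiv.ofBijective (pushH ι k F n) (bijective_pushH ι k F n)).dualMap
        (psi N k h ((Ext.mk₀ ((Scheme.Modules.pushforward ι).map φ)).comp η (zero_add c))) :=
    ((LinearEquiv.ofBijective (pushH ι k F n) (bijective_pushH ι k F n)).dualMap.bijective).comp
      ((bijective_psi N k c n h _ (QC70.isCoh_pushforward ι F hF)).comp (hη F))
  have key : ∀ (φ : F ⟶ ω) (x : Coh.HH X F n),
      (psi N k h η).comp (pushH ι k ω n) (Crv77.hmap k φ n x) =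
        psi N k h ((Ext.mk₀ ((Scheme.Modules.pushforward ι).map φ)).comp η (zero_add c)) (pushH ι k F n x) := fun φ x => by
    rw [psi_natural, LinearMap.comp_apply, pushH_natural]
    rfl
  obtain ⟨φ, hφ⟩ := hbij.2 ψ
  refine ⟨φ, fun x => (LinearMap.congr_fun hφ x).symm.trans (key φ x).symm, fun φ' hφ' => hbij.1 ?_⟩
  exact LinearMap.ext fun x =>
    (key φ' x).symm.trans ((hφ' x).symm.trans (LinearMap.congr_fun hφ x).symm)

end Groth.Agent.PDual19
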