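import Groth.Agent.PDual19.FinDual
import Groth.Agent.PDual19.DimLe
import Groth.Agent.PDual19.DualRange
import Groth.Agent.LC16.ExtCodimPn
import Groth.Agent.ZClos93.Flat
import Groth.Agent.GSS45.ClosedRight
import Groth.Agent.FinCov99.Split

/-!
# Dualising sheaf and duality in a range for subschemes of dimension at most `r`
-/

universe u

open CategoryTheory Limits AlgebraicGeometry Opposite

set_option autoImplicit false
set_option maxSynthPendingDepth 6
set_option maxHeartbeats 1000000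
set_option synthInstance.maxHeartbeats 800000
set_option backward.isDefEq.respectTransparency.types false

noncomputable section

namespace Groth.Agent.PDual19

variable (k : Type u) [Field k] (N r : ℕ) {X : Scheme.{u}} [X.Over (Spec (CommRingCat.of k))]
  (ι : X ⟶ CohB1.ProjSpace N k) [IsClosedImmersion ι]

theorem exists_isDualizing_of_dim (hr : r ≤ N) (hdim : topologicalKrullDim ↥X ≤ (r : WithBot ℕ∞))
    (hι : ι ≫ CohB1.ProjSpace.toSpec N k = X ↘ Spec (CommRingCat.of k))
    [ModSite.HasSheafHom (O := (CohB1.ProjSpace N k).sheaf) ((Scheme.Modules.pushforward ι).obj (Coh.structureModule X))]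
    [HasInjectiveResolutions (ModSite.Mod (CohB1.ProjSpace N k).sheaf)]
    (ω : X.Modules)
    (hω : Nonempty ((Scheme.Modules.pushforward ι).obj ω ≅
      (ModSite.extSh (O := (CohB1.ProjSpace N k).sheaf) ((Scheme.Modules.pushforward ι).obj (Coh.structureModule X)) (N - r)).obj
        (Twist.twistProjSpace N k (-((N : ℤ) + 1))))) :
    ∃ t : Coh.HH X ω r →ₗ[k] k, IsDualizing k r ω t := by
  refine exists_isDualizing k N r (N - r) (Nat.add_sub_cancel' hr) ι hι ω hω fun j hj => ?_
  refine LC16.ExtCodim.isZero_extSh_projSpace N ι (N - r) ?_ _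
    (FinCov99.isFinLocFree_of_rank (Mero90.isFinLocFreeOfRank_of_isInvertible (Var76.Reg.isInvertible_twist _))) j hj
  refine le_trans (add_le_add hdim le_rfl) ?_
  rw [← Nat.cast_add, Nat.add_sub_cancel' hr]

theorem isCoh_omega_of_iso
    [ModSite.HasSheafHom (O := (CohB1.ProjSpace N k).sheaf) ((Scheme.Modules.pushforward ι).obj (Coh.structureModule X))]
    [HasInjectiveResolutions (ModSite.Mod (CohB1.ProjSpace N k).sheaf)] (c : ℕ)
    (ω : X.Modules)
    (hω : Nonempty ((Scheme.Modules.pushforward ι).obj ω ≅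
      (ModSite.extSh (O := (CohB1.ProjSpace N k).sheaf) ((Scheme.Modules.pushforward ι).obj (Coh.structureModule X)) c).obj
        (Twist.twistProjSpace N k (-((N : ℤ) + 1))))) : Coh.IsCoh ω := by
  haveI := LGlob19.isLocallyNoetherian_sub k N ι
  haveI := Serre71.isProper_projSpace N k
  haveI : IsLocallyNoetherian (CohB1.ProjSpace N k) :=
    LocallyOfFiniteType.isLocallyNoetherian (CohB1.ProjSpace.toSpec N k)
  have hO : Coh.IsCoh (Coh.structureModule X) := QC70.isCoh_unit
  haveI := hO.1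
  haveI := hO.2
  obtain ⟨e⟩ := hω
  exact QC70.isCoh_of_iso ((GSS45.ClosedHom.counitIso ι).app ω)
    (ZClos93.isCoh_pullback ι _ (QC70.isCoh_of_iso e.symm
      (QC70.isCoh_extSh _ _ (QC70.isCoh_pushforward ι _ hO)
        (Amp73.isCoh_of_isInvertible (Var76.Reg.isInvertible_twist _)) _)))

theorem nonempty_ext_range (hr : r ≤ N) (s : ℕ) (hs : s ≤ r) (hdim : topologicalKrullDim ↥X ≤ (r : WithBot ℕ∞))
    (hι : ι ≫ CohB1.ProjSpace.toSpec N k = X ↘ Spec (CommRingCat.of k))
    [ModSite.HasSheafHom (O := (CohB1.ProjSpace N k).sheaf) ((Scheme.Modules.pushforward ι).obj (Coh.structureModule X))]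
    [HasInjectiveResolutions (ModSite.Mod (CohB1.ProjSpace N k).sheaf)]
    (ω : X.Modules)
    (hω : Nonempty ((Scheme.Modules.pushforward ι).obj ω ≅
      (ModSite.extSh (O := (CohB1.ProjSpace N k).sheaf) ((Scheme.Modules.pushforward ι).obj (Coh.structureModule X)) (N - r)).obj
        (Twist.twistProjSpace N k (-((N : ℤ) + 1)))))
    [HasExt.{u} X.Modules]
    (hiii : ∀ p : ℕ, r - s ≤ p → p < r →
      IsZero ((ModSite.extSh (O := (CohB1.ProjSpace N k).sheaf) ((Scheme.Modules.pushforward ι).obj (Coh.structureModule X)) (N - p)).obj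
        (Twist.twistProjSpace N k (-((N : ℤ) + 1)))))
    (F : X.Modules) (hF : Coh.IsCoh F) (i : ℕ) (hi : i ≤ s) :
    Nonempty (Abelian.Ext F ω i ≃ₗ[k] Module.Dual k (Coh.HH X F (r - i))) := by
  obtain ⟨t, ht⟩ := exists_isDualizing_of_dim k N r ι hr hdim hι ω hω
  haveI := LGlob19.isLocallyNoetherian_sub k N ι
  have hω' : Coh.IsCoh ω := isCoh_omega_of_iso k N ι (N - r) ω hω
  obtain ⟨c₁, h₁⟩ := exists_ext_OX_vanish k N ι hω'
  have hc : ∀ m : ℕ, ∃ c : ℤ, ∀ q, q < m → r ≤ q + s → q < r → ∀ d : ℤ, d ≤ c →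
      Subsingleton (Coh.HH X (LGlob19.OX k N ι d) q) := fun m => by
    induction m with
    | zero => exact ⟨0, fun q hq => absurd hq (Nat.not_lt_zero q)⟩
    | succ m ih =>
      obtain ⟨c, hc⟩ := ih
      by_cases hm : r ≤ m + s ∧ m < r
      · obtain ⟨c', hc'⟩ := exists_hh_OX_vanish_of_extSh k N ι m (N - m) (by omega) (hiii m (by omega) hm.2)
        refine ⟨min c c', fun q hq hq1 hq2 d hd => ?_⟩
        rcases (Nat.lt_succ_iff.mp hq).lt_or_eq with h | rfl
        · exact hc q h hq1 hq2 d (hd.trans (min_le_left _ _))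
        · exact hc' d (hd.trans (min_le_right _ _))
      · refine ⟨c, fun q hq hq1 hq2 d hd => ?_⟩
        rcases (Nat.lt_succ_iff.mp hq).lt_or_eq with h | rfl
        · exact hc q h hq1 hq2 d hd
        · exact absurd ⟨hq1, hq2⟩ hm
  obtain ⟨c₂, h₂⟩ := hc r
  refine duality_range k r ω t ht s (fun G hG => ?_) i F hF (r - i) hi (by omega)
  obtain ⟨c₃, h₃⟩ := exists_presentationX k N ι G hG
  let d := min c₁ (min c₂ c₃)
  obtain ⟨b, p, hp⟩ := h₃ d ((min_le_right _ _).trans (min_le_right _ _))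
  let M : Fin b → X.Modules := fun _ => LGlob19.OX k N ι d
  refine ⟨∐ M, p, hp, QC70.isCoh_of_iso (biproduct.isoCoproduct M)
    (QC70.isCoh_biproduct M fun _ => isCoh_OX k N ι d),
    fun q hq => subsingleton_ext_sigma M ω q fun _ => h₁ d (min_le_left _ _) q hq, fun q hq1 hq2 => ?_⟩
  haveI := h₂ q hq2 hq1 hq2 d ((min_le_right _ _).trans (min_le_left _ _))
  refine subsingleton_of_forall_eq 0 fun y => ?_
  obtain ⟨z, rfl⟩ := SerreD94.hmap_sigma_total (A := k) M q y
  exact Finset.sum_eq_zero fun l _ => by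
    rw [show z l = 0 from @Subsingleton.elim (Coh.HH X (LGlob19.OX k N ι d) q) _ _ _, map_zero]

end Groth.Agent.PDual19
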