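import Groth.Agent.LC16.ExtCodimPn
import Groth.Agent.LC15.RegCut
import Groth.Agent.Div89.Basic
import Groth.Agent.Gor18.Regular
import Groth.Agent.NeronHD28.SmoothReg
import Groth.Agent.Serre71.ProjFinite

/-!
# Subschemes of `P^N` of dimension `≤ N - r` cut out locally by `r` sections are regularly immersed
-/

universe u

set_option autoImplicit false
set_option backward.isDefEq.respectTransparency.types false
set_option linter.style.haveILetI false

open CategoryTheory Limits AlgebraicGeometry TopologicalSpace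

noncomputable section

namespace Groth.Agent.PDual19

theorem isRegularImmersion_of_gen {k : Type u} [Field k] {N r : ℕ} (hr : r ≤ N) {X : Scheme.{u}}
    (ι : X ⟶ CohB1.ProjSpace N k) [IsClosedImmersion ι]
    (hdim : topologicalKrullDim ↥X ≤ ((N - r : ℕ) : WithBot ℕ∞))
    (hgen : ∀ x : X, ∃ U : (CohB1.ProjSpace N k).affineOpens, ι.base x ∈ (U : (CohB1.ProjSpace N k).Opens) ∧
      ∃ f : Fin r → Γ(CohB1.ProjSpace N k, (U : (CohB1.ProjSpace N k).Opens)), ι.ker.ideal U = Ideal.span (Set.range f)) :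
    RegImm.IsRegularImmersionOfCodim RegImm.Kind.regular r ι := by
  haveI := Serre71.isProper_projSpace N k
  haveI : IsLocallyNoetherian (CohB1.ProjSpace N k) :=
    LocallyOfFiniteType.isLocallyNoetherian (CohB1.ProjSpace.toSpec N k)
  refine ⟨inferInstance, fun y => ?_⟩
  obtain ⟨U, hyU, f, hf⟩ := hgen y
  haveI := IsLocallyNoetherian.component_noetherian U
  letI : Algebra Γ((CohB1.ProjSpace N k), U.1) ((CohB1.ProjSpace N k).presheaf.stalk (ι y)) := ((CohB1.ProjSpace N k).presheaf.germ U.1 (ι y) hyU).hom.toAlgebra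
  haveI : IsLocalization.AtPrime ((CohB1.ProjSpace N k).presheaf.stalk (ι y)) (Div89.primeAt U (ι y) hyU) :=
    U.2.isLocalization_stalk ⟨ι y, hyU⟩
  haveI := LC16.ExtCodim.regular_projSpace k N (ι y)
  haveI := Gor18.regular_gor ((CohB1.ProjSpace N k).presheaf.stalk (ι y))
  haveI := Gor18.gor_cm ((CohB1.ProjSpace N k).presheaf.stalk (ι y))
  let gl : List ((CohB1.ProjSpace N k).presheaf.stalk (ι y)) := (List.ofFn f).map (algebraMap Γ((CohB1.ProjSpace N k), U.1) ((CohB1.ProjSpace N k).presheaf.stalk (ι y)))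
  have hker : RingHom.ker (ι.app U.1).hom = Ideal.ofList (List.ofFn f) := by
    rw [← Scheme.Hom.ker_apply ι U, hf, Ideal.ofList]
    congr 1
    ext a
    simp [List.mem_ofFn]
  have hkery : ∀ a ∈ RingHom.ker (ι.app U.1).hom,
      algebraMap Γ((CohB1.ProjSpace N k), U.1) ((CohB1.ProjSpace N k).presheaf.stalk (ι y)) a ∈ IsLocalRing.maximalIdeal ((CohB1.ProjSpace N k).presheaf.stalk (ι y)) := by
    intro a ha h
    have h1 : IsUnit (ι.stalkMap y ((CohB1.ProjSpace N k).presheaf.germ U.1 (ι y) hyU a)) := h.map _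
    rw [Scheme.Hom.germ_stalkMap_apply, show ι.app U.1 a = 0 from ha, map_zero] at h1
    exact not_isUnit_zero h1
  have hreg : RingTheory.Sequence.IsWeaklyRegular ((CohB1.ProjSpace N k).presheaf.stalk (ι y)) gl := by
    refine LC15.RegCut.weaklyRegular_of_height gl (fun a ha => ?_) fun q hq => ?_
    · obtain ⟨b, hb, rfl⟩ := List.mem_map.1 ha
      exact hkery b (hker ▸ Ideal.subset_span hb)
    · let p' : (CohB1.ProjSpace N k) := (CohB1.ProjSpace N k).fromSpecStalk (ι y) q
      have hsp : p' ⤳ ι y := by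
        exact (Set.ext_iff.1 (Scheme.range_fromSpecStalk (X := CohB1.ProjSpace N k) (x := ι y)) p').1 ⟨q, rfl⟩
      have hp'U : p' ∈ U.1 := hsp.mem_open U.1.isOpen hyU
      have hsupp : p' ∈ ι.ker.support := by
        rw [Scheme.IdealSheafData.mem_support_iff_of_mem hp'U, Scheme.mem_zeroLocus_iff]
        intro a ha hmem
        have ha' : algebraMap Γ((CohB1.ProjSpace N k), U.1) ((CohB1.ProjSpace N k).presheaf.stalk (ι y)) a ∈ q.asIdeal := by
          refine hq ?_
          rw [show gl = (List.ofFn f).map (algebraMap Γ((CohB1.ProjSpace N k), U.1) ((CohB1.ProjSpace N k).presheaf.stalk (ι y))) from rfl,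
            ← Ideal.map_ofList]
          refine Ideal.mem_map_of_mem _ ?_
          rw [← hker, ← Scheme.Hom.ker_apply ι U]
          exact ha
        have h2 : q ∈ ((CohB1.ProjSpace N k).fromSpecStalk (ι y)) ⁻¹ᵁ (CohB1.ProjSpace N k).basicOpen a := hmem
        rw [Scheme.preimage_basicOpen, Scheme.fromSpecStalk_app hyU, CommRingCat.comp_apply, CommRingCat.comp_apply,
          Scheme.basicOpen_res] at h2
        have h3 := h2.2
        rw [basicOpen_eq_of_affine] at h3
        exact h3 ha'
      have hrange : p' ∈ Set.range ι := by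
        rw [← ι.isClosedEmbedding.isClosed_range.closure_eq, ← Scheme.Hom.support_ker]
        exact hsupp
      obtain ⟨D, M, hD, hM, hNM⟩ := LC16.ExtCodim.natCast_le_dim_stalk (CohB1.ProjSpace.toSpec N k) N
        (fun Z hZ => LC16.ExtCodim.dim_components_projSpace k N Z hZ) p'
      have hcl : topologicalKrullDim ↥(closure ({p'} : Set (CohB1.ProjSpace N k))) ≤ topologicalKrullDim ↥X := by
        have hsub : closure ({p'} : Set (CohB1.ProjSpace N k)) ⊆ Set.range ι :=
          closure_minimal (Set.singleton_subset_iff.2 hrange) ι.isClosedEmbedding.isClosed_range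
        refine (Topology.IsEmbedding.inclusion hsub).isInducing.topologicalKrullDim_le.trans ?_
        exact (IsHomeomorph.topologicalKrullDim_eq _
          ι.isClosedEmbedding.isEmbedding.toHomeomorph.isHomeomorph).ge
      rw [hD] at hcl
      have hDle : D ≤ N - r := by exact_mod_cast hcl.trans hdim
      rw [show gl.length = r by simp [gl]]
      rw [NeronHD28.ringKrullDim_stalk_fromSpecStalk] at hM
      have h4 : (M : ℕ∞) ≤ q.asIdeal.height := by exact_mod_cast hM
      exact le_trans (by exact_mod_cast (show r ≤ M by omega)) h4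
  obtain ⟨g, hg, hspec⟩ := LC15.RegCut.exists_away (Div89.primeAt U (ι y) hyU) (List.ofFn f) (List.ofFn f)
    (Ideal.ofList (List.ofFn f)) le_rfl ((CohB1.ProjSpace N k).presheaf.stalk (ι y)) le_rfl hreg
  letI : Algebra Γ((CohB1.ProjSpace N k), U.1) Γ((CohB1.ProjSpace N k), (CohB1.ProjSpace N k).basicOpen g) := ((CohB1.ProjSpace N k).presheaf.map (homOfLE ((CohB1.ProjSpace N k).basicOpen_le g)).op).hom.toAlgebra
  obtain ⟨hVreg, -⟩ := hspec Γ((CohB1.ProjSpace N k), (CohB1.ProjSpace N k).basicOpen g) (U.2.isLocalization_basicOpen g)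
  have hyV : ι y ∈ (CohB1.ProjSpace N k).basicOpen g := (Div89.mem_basicOpen_iff_notMem U (ι y) hyU g).2 hg
  have hker' : RingHom.ker (ι.app ((CohB1.ProjSpace N k).basicOpen g)).hom =
      Ideal.ofList ((List.ofFn f).map (algebraMap Γ((CohB1.ProjSpace N k), U.1) Γ((CohB1.ProjSpace N k), (CohB1.ProjSpace N k).basicOpen g))) := by
    refine ((Scheme.Hom.ker_apply ι ((CohB1.ProjSpace N k).affineBasicOpen g)).symm.trans
      (ι.ker.map_ideal (U := (CohB1.ProjSpace N k).affineBasicOpen g) (V := U)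
        ((CohB1.ProjSpace N k).basicOpen_le g)).symm).trans ?_
    rw [← Ideal.map_ofList, ← hker, ← Scheme.Hom.ker_apply ι U]
    rfl
  refine ⟨(CohB1.ProjSpace N k).affineBasicOpen g, hyV, inferInstance, _, (List.length_map _).trans List.length_ofFn, ⟨hVreg, ?_⟩, hker'⟩
  rw [Ne, eq_comm, Ideal.smul_eq_mul, Ideal.mul_top]
  intro h
  haveI : Nontrivial Γ(X, ι ⁻¹ᵁ (CohB1.ProjSpace N k).basicOpen g) := (X.presheaf.germ (ι ⁻¹ᵁ (CohB1.ProjSpace N k).basicOpen g) y hyV).hom.domain_nontrivial
  exact RingHom.ker_ne_top _ (hker'.trans h)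

end Groth.Agent.PDual19
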