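import Groth.Agent.PDual19.Duality
import Mathlib.Algebra.Homology.DerivedCategory.Ext.Map

/-!
# The Yoneda pairing `Ext^i(F, ω) → H^{n-i}(F)^∨` on projective space
-/

universe u

open CategoryTheory Limits AlgebraicGeometry Opposite Abelian

set_option autoImplicit false
set_option maxSynthPendingDepth 6
set_option maxHeartbeats 1000000
set_option synthInstance.maxHeartbeats 400000
set_option backward.isDefEq.respectTransparency.types false

noncomputable section

namespace Groth.Agent.PDual19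

variable (n : ℕ) (k : Type u) [Field k] [HasExt.{u} (CohB1.ProjSpace n k).Modules]

local notation "P" => CohB1.ProjSpace n k
local notation "ω₀" => SerreD94.omega n k

/-- Yoneda product with the class of cohomology. -/
abbrev yon {F G : (CohB1.ProjSpace n k).Modules} {i j m : ℕ} (h : j + i = m) (x : Coh.HH P F j) (ξ : Ext F G i) :
    Coh.HH P G m :=
  Ext.comp x (ξ.mapExactFunctor (Crv77.toAbF P)) h

theorem yon_hmap {F F' G : (CohB1.ProjSpace n k).Modules} {i j m : ℕ} (h : j + i = m) (f : F ⟶ F') (x : Coh.HH P F j) (ξ : Ext F' G i) :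
    yon n k h (Crv77.hmap k f j x) ξ = yon n k h x ((Ext.mk₀ f).comp ξ (zero_add i)) := by
  change Ext.comp (Ext.comp x (Ext.mk₀ ((Crv77.toAbF P).map f)) (add_zero j)) _ h = Ext.comp x _ h
  rw [Ext.mapExactFunctor_comp, Ext.mapExactFunctor_mk₀, Ext.comp_assoc_of_second_deg_zero]
  rfl

theorem yon_smul {F G : (CohB1.ProjSpace n k).Modules} {i j m : ℕ} (h : j + i = m) (a : k) (x : Coh.HH P F j) (ξ : Ext F G i) :
    yon n k h (a • x) ξ = a • yon n k h x ξ ∧ yon n k h x (a • ξ) = a • yon n k h x ξ := by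
  have h1 : (Ext.mk₀ (a • 𝟙 F)).comp ξ (zero_add i) = a • ξ := by
    rw [Ext.mk₀_smul, Ext.smul_comp, Ext.mk₀_id_comp]
  have h2 : ξ.comp (Ext.mk₀ (a • 𝟙 G)) (add_zero i) = a • ξ := by
    rw [Ext.mk₀_smul, Ext.comp_smul, Ext.comp_mk₀_id]
  have h3 : a • x = Crv77.hmap k (a • 𝟙 F) j x := by
    rw [KLin.smul_id]; rfl
  have h4 : yon n k h x (a • ξ) = a • yon n k h x ξ := by
    have h5 : a • yon n k h x ξ = Crv77.hmap k (a • 𝟙 G) m (yon n k h x ξ) := by
      rw [KLin.smul_id]; rfl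
    rw [h5, ← h2]
    change Ext.comp x _ h = Ext.comp (Ext.comp x _ h) (Ext.mk₀ ((Crv77.toAbF P).map _)) (add_zero m)
    rw [Ext.mapExactFunctor_comp, Ext.mapExactFunctor_mk₀, Ext.comp_assoc_of_third_deg_zero]
    rfl
  exact ⟨by rw [h3, yon_hmap, h1, h4], h4⟩

/-- The pairing. -/
def psi {F : (CohB1.ProjSpace n k).Modules} {i j : ℕ} (h : j + i = n) :
    Ext F ω₀ i →ₗ[k] Module.Dual k (Coh.HH P F j) where
  toFun ξ :=
    { toFun := fun x => SerreD94.trace n k (yon n k h x ξ)
      map_add' := fun x y => by rw [← map_add]; exact congrArg _ (Ext.add_comp x y _ h)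
      map_smul' := fun a x => by rw [(yon_smul n k h a x ξ).1, map_smul]; rfl }
  map_add' ξ ξ' := LinearMap.ext fun x => by
    change SerreD94.trace n k (yon n k h x (ξ + ξ')) =
      SerreD94.trace n k (yon n k h x ξ) + SerreD94.trace n k (yon n k h x ξ')
    rw [← map_add]
    refine congrArg _ ?_
    change Ext.comp x ((Crv77.toAbF P).mapExtAddHom F ω₀ i (ξ + ξ')) h = _
    exact (congrArg (fun z => Ext.comp x z h) (map_add ((Crv77.toAbF P).mapExtAddHom F ω₀ i) ξ ξ')).trans
      (Ext.comp_add x _ _ h)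
  map_smul' a ξ := LinearMap.ext fun x => by
    change SerreD94.trace n k (yon n k h x (a • ξ)) = a • SerreD94.trace n k (yon n k h x ξ)
    rw [(yon_smul n k h a x ξ).2, map_smul]

theorem psi_natural {F F' : (CohB1.ProjSpace n k).Modules} {i j : ℕ} (h : j + i = n) (f : F ⟶ F') (ξ : Ext F' ω₀ i) :
    psi n k h ((Ext.mk₀ f).comp ξ (zero_add i)) = (Crv77.hmap k f j).dualMap (psi n k h ξ) :=
  LinearMap.ext fun x => congrArg (SerreD94.trace n k) (yon_hmap n k h f x ξ).symm

theorem psi_mk₀ {F : (CohB1.ProjSpace n k).Modules} (h : n + 0 = n) (φ : F ⟶ ω₀) :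
    psi n k h (Ext.mk₀ φ) = pair n k F φ :=
  LinearMap.ext fun x => congrArg (SerreD94.trace n k) (by
    change Ext.comp x ((Ext.mk₀ φ).mapExactFunctor (Crv77.toAbF P)) h = _
    rw [Ext.mapExactFunctor_mk₀]
    rfl)

theorem psi_extδ {S : ShortComplex (CohB1.ProjSpace n k).Modules} (hS : S.ShortExact) {i j : ℕ}
    (h : j + (i + 1) = n) (h' : j + 1 + i = n) (ξ : Ext S.X₁ ω₀ i) :
    psi n k h (extδ k hS ω₀ (Nat.add_comm 1 i) ξ) = (Crv77.hδ k hS j).dualMap (psi n k h' ξ) :=
  LinearMap.ext fun x => congrArg (SerreD94.trace n k) (by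
    change Ext.comp x (((hS.extClass).comp ξ (Nat.add_comm 1 i)).mapExactFunctor (Crv77.toAbF P)) h =
      Ext.comp (Ext.comp x (Crv77.abComplex_shortExact hS).extClass rfl) (ξ.mapExactFunctor (Crv77.toAbF P)) h'
    rw [Ext.mapExactFunctor_comp, Ext.mapExactFunctor_extClass (Crv77.toAbF P) hS]
    exact (Ext.comp_assoc x _ _ rfl (Nat.add_comm 1 i) (by omega)).symm)

theorem bijective_psi : ∀ (i j : ℕ) (h : j + i = n) (F : (CohB1.ProjSpace n k).Modules), Coh.IsCoh F →
    Function.Bijective (psi n k (F := F) h) := by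
  intro i
  induction i with
  | zero =>
    intro j h F hF
    obtain rfl : j = n := by omega
    have e : (psi j k (F := F) h : Ext F (SerreD94.omega j k) 0 → _) = pair j k F ∘ Ext.addEquiv₀ := funext fun ξ => by
      obtain ⟨φ, rfl⟩ := Ext.addEquiv₀.symm.surjective ξ
      rw [Function.comp_apply, AddEquiv.apply_symm_apply]
      exact psi_mk₀ j k h φ
    rw [e]
    exact (bijective_pair j k hF).comp Ext.addEquiv₀.bijective
  | succ i IH =>
    intro j h F hF
    obtain ⟨⟨S, hS, eF, h₁, h₂, he, hh⟩⟩ := nonempty_step n k hF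
    suffices H : Function.Bijective (psi n k (F := S.X₃) h) by
      have e : ∀ ξ : Ext F ω₀ (i + 1), psi n k h ξ =
          (Crv77.hmap k eF.inv j).dualMap (psi n k h ((Ext.mk₀ eF.hom).comp ξ (zero_add (i + 1)))) := fun ξ => by
        rw [← psi_natural, Ext.mk₀_comp_mk₀_assoc, eF.inv_hom_id, Ext.mk₀_id_comp]
      have hb1 : Function.Bijective fun ξ : Ext F ω₀ (i + 1) => (Ext.mk₀ eF.hom).comp ξ (zero_add (i + 1)) :=
        Function.bijective_iff_has_inverse.mpr ⟨fun ξ => (Ext.mk₀ eF.inv).comp ξ (zero_add (i + 1)),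
          fun ξ => by simp, fun ξ => by simp⟩
      rw [show (psi n k (F := F) h : Ext F ω₀ (i + 1) → _) = (Crv77.hmap k eF.inv j).dualMap ∘ psi n k h ∘
        fun ξ => (Ext.mk₀ eF.hom).comp ξ (zero_add (i + 1)) from funext e]
      exact ((Crv77.hEquiv k eF.symm j).dualMap.bijective).comp (H.comp hb1)
    have hj' : j + 1 + i = n := by omega
    have sq : psi n k h ∘ extδ k hS ω₀ (Nat.add_comm 1 i) = (Crv77.hδ k hS j).dualMap ∘ psi n k hj' :=
      funext fun ξ => psi_extδ n k hS h hj' ξ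
    haveI := he (i + 1) (Nat.succ_pos i)
    have hsurj : Function.Surjective (extδ k hS ω₀ (Nat.add_comm 1 i)) := surjective_extδ k hS ω₀ _
    have hinjδ : Function.Injective (Crv77.hδ k hS j) := (injective_iff_map_eq_zero _).mpr fun x hx => by
      obtain ⟨y, rfl⟩ := (Crv77.exact_g_δ k hS j x).1 hx
      haveI := hh j (by omega)
      rw [Subsingleton.elim y 0, map_zero]
    have hR : Function.Surjective ((Crv77.hδ k hS j).dualMap ∘ psi n k hj') :=
      (LinearMap.dualMap_surjective_iff.mpr hinjδ).comp (IH (j + 1) hj' S.X₁ h₁).2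
    refine ⟨(injective_iff_map_eq_zero _).mpr fun y hy => ?_, Function.Surjective.of_comp (g := extδ k hS ω₀ (Nat.add_comm 1 i)) (sq ▸ hR)⟩
    obtain ⟨x, rfl⟩ := hsurj y
    rw [psi_extδ n k hS h hj' x] at hy
    rcases Nat.eq_zero_or_pos i with rfl | hi
    · obtain ⟨φ, rfl⟩ := Ext.addEquiv₀.symm.surjective x
      change extδ k hS ω₀ (Nat.add_comm 1 0) (Ext.mk₀ φ) = 0
      change (Crv77.hδ k hS j).dualMap (psi n k hj' (Ext.mk₀ φ)) = 0 at hy
      obtain rfl : n = j + 1 := by omega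
      rw [psi_mk₀] at hy
      have hm : pair (j + 1) k S.X₁ φ ∈ (Crv77.hmap k S.f (j + 1)).ker.dualAnnihilator := by
        rw [Submodule.mem_dualAnnihilator]
        intro z hz
        obtain ⟨w, rfl⟩ := (Crv77.exact_δ_f k hS j z).1 hz
        exact LinearMap.congr_fun hy w
      rw [← LinearMap.range_dualMap_eq_dualAnnihilator_ker] at hm
      obtain ⟨ψ', hψ'⟩ := hm
      obtain ⟨ψ, rfl⟩ := (bijective_pair (j + 1) k h₂).2 ψ'
      exact (extδ_mk₀_eq_zero_iff k hS _ φ).2
        ⟨ψ, (bijective_pair (j + 1) k h₁).1 ((pair_comp (j + 1) k S.f ψ).trans hψ')⟩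
    · have hδs : Function.Surjective (Crv77.hδ k hS j) := fun z => by
        haveI := hh (j + 1) (by omega)
        exact (Crv77.exact_δ_f k hS j z).1 (Subsingleton.elim _ _)
      have hx : psi n k hj' x = 0 :=
        (LinearMap.dualMap_injective_iff.mpr hδs) (hy.trans (map_zero _).symm)
      rw [(IH (j + 1) hj' S.X₁ h₁).1 (hx.trans (map_zero _).symm), map_zero]

end Groth.Agent.PDual19
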