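import Groth.Agent.PDual19.SmoothExt
import Groth.Agent.PDual19.FinDualPure
import Groth.Agent.GSS45.RelExt
import Groth.Agent.LC16.ExtSections
import Groth.Agent.CAlg8.Canon.ProjSmooth
import Groth.Agent.CAlg8.Canon.Smooth
import Groth.Agent.Om3.OmegaPn
import Groth.Agent.RedPts82.SmoothDim
import Groth.Agent.VarGal.LocalDim
import Groth.Agent.Crv77.Hurwitz

/-!
# The dualising sheaf on the regular locus
-/

universe u

set_option autoImplicit false
set_option backward.isDefEq.respectTransparency.types false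
set_option linter.style.haveILetI false

open CategoryTheory Limits AlgebraicGeometry TopologicalSpace

noncomputable section

namespace Groth.Agent.PDual19

open GSS45 GSS45.ClosedHom

theorem exists_omega {X P : Scheme.{u}} (i : X ⟶ P) [IsClosedImmersion i] (G : P.Modules) (q : ℕ)
    [ModSite.HasSheafHom (O := P.sheaf) ((Scheme.Modules.pushforward i).obj (Coh.structureModule X))]
    [HasInjectiveResolutions (ModSite.Mod P.sheaf)] :
    ∃ ω : X.Modules, Nonempty ((Scheme.Modules.pushforward i).obj ω ≅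
      (ModSite.extSh (O := P.sheaf) ((Scheme.Modules.pushforward i).obj (Coh.structureModule X)) q).obj G) := by
  have : HasInjectiveResolutions P.Modules := ‹HasInjectiveResolutions (ModSite.Mod P.sheaf)›
  have := preservesFiniteLimits_pushforward i
  have := preservesFiniteColimits_pushforward i
  let p := Scheme.Modules.pushforward i
  let T : P.Modules ⥤ P.Modules := ModSite.sheafHom (O := P.sheaf) (p.obj (Coh.structureModule X))
  have : T.Additive :=
    have := (QC70.homModAdj (p.obj (Coh.structureModule X))).right_adjoint_additive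
    Functor.additive_of_iso (QC70.sheafHomIso' (p.obj (Coh.structureModule X))).symm
  let e : W i (Coh.structureModule X) ⋙ p ≅ T := wPushIso i _ ≪≫ (QC70.sheafHomIso' _).symm
  exact ⟨((W i (Coh.structureModule X)).rightDerived q).obj G,
    ⟨((SiteCoh.rightDerivedCompExactIso (W i (Coh.structureModule X)) p q).symm ≪≫ rightDerivedIsoOfIso e q).app G⟩⟩

theorem IsDualizing.nonempty_iso {k : Type u} [Field k] {X : Scheme.{u}} [X.Over (Spec (CommRingCat.of k))] {n : ℕ}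
    {ω ω' : X.Modules} {t : Coh.HH X ω n →ₗ[k] k} {t' : Coh.HH X ω' n →ₗ[k] k}
    (h : IsDualizing k n ω t) (h' : IsDualizing k n ω' t') (hω : Coh.IsCoh ω) (hω' : Coh.IsCoh ω') :
    Nonempty (ω ≅ ω') := by
  obtain ⟨a, ha, -⟩ := h' ω hω t
  obtain ⟨b, hb, -⟩ := h ω' hω' t'
  have key : ∀ {A B C : X.Modules} (f : A ⟶ B) (g : B ⟶ C) (x : Coh.HH X A n),
      Sheaf.H.map ((SheafOfModules.toSheaf X.ringCatSheaf).map (f ≫ g)) n x =
        Sheaf.H.map ((SheafOfModules.toSheaf X.ringCatSheaf).map g) n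
          (Sheaf.H.map ((SheafOfModules.toSheaf X.ringCatSheaf).map f) n x) :=
    fun f g x => (Crv77.hmap_comp k f g n x).symm
  refine ⟨⟨a, b, (h ω hω t).unique (fun x => ?_) fun x => ?_, (h' ω' hω' t').unique (fun x => ?_) fun x => ?_⟩⟩
  · exact (ha x).trans ((hb _).trans (congrArg t (key a b x).symm))
  · exact congrArg t (Crv77.hmap_id k ω n x).symm
  · exact (hb x).trans ((ha _).trans (congrArg t' (key b a x).symm))
  · exact congrArg t' (Crv77.hmap_id k ω' n x).symm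

theorem nonempty_dualizing_restrict (k : Type u) [Field k] [IsAlgClosed k] (N r : ℕ) {X : Scheme.{u}}
    [X.Over (Spec (CommRingCat.of k))] [IsIntegral X] (hdim : topologicalKrullDim X = (r : WithBot ℕ∞))
    (ι : X ⟶ CohB1.ProjSpace N k) [IsClosedImmersion ι]
    (hι : ι ≫ CohB1.ProjSpace.toSpec N k = X ↘ (Spec (CommRingCat.of k)))
    (U : X.Opens) (hne : (U : Set X).Nonempty) [Smooth (U.ι ≫ (X ↘ Spec (CommRingCat.of k)))]
    (ω : X.Modules) (hω : Coh.IsCoh ω) (t : Coh.HH X ω r →ₗ[k] k) (hd : IsDualizing k r ω t)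
    (Ω : (U : Scheme.{u}).Modules) (hΩ : ExtPow.IsExtPow r (Omega.sheaf (U.ι ≫ (X ↘ (Spec (CommRingCat.of k))))) Ω) :
    Nonempty ((Scheme.Modules.restrictFunctor U.ι).obj ω ≅ Ω) := by
  haveI := Serre71.isProper_projSpace N k
  haveI : IsProper (X ↘ Spec (CommRingCat.of k)) := hι ▸ inferInstance
  haveI hPN := CAlg8.Canon.smoothOfRelativeDimension_toSpec N k
  haveI : IsLocallyNoetherian (CohB1.ProjSpace N k) :=
    LocallyOfFiniteType.isLocallyNoetherian (CohB1.ProjSpace.toSpec N k)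
  obtain ⟨C, hC, hUC⟩ : ∃ C : Set (CohB1.ProjSpace N k), IsClosed C ∧ C = ι '' (U : Set X)ᶜ :=
    ⟨_, ι.isClosedEmbedding.isClosedMap _ U.2.isClosed_compl, rfl⟩
  let V : (CohB1.ProjSpace N k).Opens := ⟨Cᶜ, hC.isOpen_compl⟩
  have hV : ι ⁻¹ᵁ V = U := by
    ext y
    change ι y ∈ Cᶜ ↔ y ∈ (U : Set X)
    rw [Set.mem_compl_iff, hUC, ι.isClosedEmbedding.injective.mem_set_image, Set.mem_compl_iff, not_not]
  subst hV
  haveI : Nonempty ↥((ι ⁻¹ᵁ V : X.Opens) : Scheme.{u}) := hne.to_subtype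
  haveI : IsIntegral ((ι ⁻¹ᵁ V : X.Opens) : Scheme.{u}) := isIntegral_of_isOpenImmersion (ι ⁻¹ᵁ V).ι
  haveI hsm : SmoothOfRelativeDimension r ((ι ⁻¹ᵁ V).ι ≫ (X ↘ Spec (CommRingCat.of k))) :=
    RedPts82.smoothOfRelativeDimension_of_irreducible _ r
      ((VarGal.topologicalKrullDim_open_eq (X ↘ Spec (CommRingCat.of k)) (ι ⁻¹ᵁ V) hne).trans hdim)
  haveI : IsClosedImmersion (ι ∣_ V) := inferInstance
  have hcomp : (ι ∣_ V) ≫ V.ι ≫ CohB1.ProjSpace.toSpec N k = (ι ⁻¹ᵁ V).ι ≫ (X ↘ Spec (CommRingCat.of k)) := by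
    rw [morphismRestrict_ι_assoc, hι]
  haveI : HasInjectiveResolutions (ModSite.Mod (CohB1.ProjSpace N k).sheaf) :=
    (inferInstance : HasInjectiveResolutions (CohB1.ProjSpace N k).Modules)
  haveI := QC70.hasSheafHom_modSite (LocalIso.CO ι)
  obtain ⟨ω₀, hω₀⟩ := exists_omega ι (Twist.twistProjSpace N k (-((N : ℤ) + 1))) (N - r)
  obtain ⟨y⟩ := hne.to_subtype
  haveI : SmoothOfRelativeDimension N (V.ι ≫ CohB1.ProjSpace.toSpec N k) := by
    simpa using (inferInstance : SmoothOfRelativeDimension (0 + N) (V.ι ≫ CohB1.ProjSpace.toSpec N k))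
  haveI : SmoothOfRelativeDimension r ((ι ∣_ V) ≫ V.ι ≫ CohB1.ProjSpace.toSpec N k) := hcomp ▸ hsm
  have hrN : r ≤ N := relDim_le (V.ι ≫ CohB1.ProjSpace.toSpec N k) (ι ∣_ V) N r y
  obtain ⟨t₀, ht₀⟩ := exists_isDualizing_of_dim k N r ι hrN hdim.le hι ω₀ hω₀
  obtain ⟨eω⟩ := hd.nonempty_iso ht₀ hω (isCoh_omega_of_iso k N ι (N - r) ω₀ hω₀)
  obtain ⟨e₀⟩ := hω₀
  let P' : Scheme.{u} := ↑V
  haveI : HasInjectiveResolutions (ModSite.Mod P'.sheaf) := (inferInstance : HasInjectiveResolutions P'.Modules)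
  haveI := QC70.hasSheafHom_modSite ((LocalIso.CO ι).restrict V.ι)
  haveI := QC70.hasSheafHom_modSite (LocalIso.CO (ι ∣_ V))
  obtain ⟨e₁⟩ := QC70.nonempty_extSh_restrict V.ι (LocalIso.CO ι)
    (Twist.twistProjSpace N k (-((N : ℤ) + 1))) (N - r)
  have hOP := Om3.OmegaPn.isExtPow_twist (n := N) (k := k)
  rw [show -(N : ℤ) - 1 = -((N : ℤ) + 1) by ring] at hOP
  have hOV : ExtPow.IsExtPow N (Omega.sheaf (V.ι ≫ CohB1.ProjSpace.toSpec N k))
      ((Scheme.Modules.pullback V.ι).obj (Twist.twistProjSpace N k (-((N : ℤ) + 1)))) :=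
    Om3.isExtPow_omega_of_etale (h := 𝟙 _) (f' := V.ι ≫ CohB1.ProjSpace.toSpec N k) (Category.comp_id _).symm hOP
  have hOV' := CAlg8.Canon.isExtPow_of_iso_right
    ((Scheme.Modules.restrictFunctorIsoPullback V.ι).app (Twist.twistProjSpace N k (-((N : ℤ) + 1)))).symm hOV
  obtain ⟨e₂⟩ := nonempty_smooth_ext_iso (V.ι ≫ CohB1.ProjSpace.toSpec N k)
    ((ι ⁻¹ᵁ V).ι ≫ (X ↘ Spec (CommRingCat.of k))) (ι ∣_ V) hcomp N r _ hOV' Ω hΩ
  obtain ⟨eO⟩ : Nonempty ((LocalIso.CO ι).restrict V.ι ≅ LocalIso.CO (ι ∣_ V)) :=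
    ⟨(GSS45.RelExt.pushRestrictIso ι V).app (Coh.structureModule X) ≪≫
      (Scheme.Modules.pushforward (ι ∣_ V)).mapIso ((Scheme.Modules.restrictFunctorIsoPullback _).app _ ≪≫
        PicLoc.pullbackStructureIso _)⟩
  obtain ⟨e₃⟩ := LC16.ExtSections.nonempty_extSh_congr eO
    (((Twist.twistProjSpace N k (-((N : ℤ) + 1))) : (CohB1.ProjSpace N k).Modules).restrict V.ι) (N - r)
  let e : (Scheme.Modules.pushforward (ι ∣_ V)).obj ((Scheme.Modules.restrictFunctor (ι ⁻¹ᵁ V).ι).obj ω₀) ≅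
      (Scheme.Modules.pushforward (ι ∣_ V)).obj Ω :=
    ((GSS45.RelExt.pushRestrictIso ι V).app ω₀).symm ≪≫ (Scheme.Modules.restrictFunctor V.ι).mapIso e₀ ≪≫ e₁ ≪≫ e₃ ≪≫
      e₂.symm
  haveI := full_pushforward (ι ∣_ V)
  haveI := QC70.faithful_pushforward (ι ∣_ V)
  exact ⟨(Scheme.Modules.restrictFunctor _).mapIso eω ≪≫ (Scheme.Modules.pushforward (ι ∣_ V)).preimageIso e⟩

end Groth.Agent.PDual19
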