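import Groth.Agent.S11924
import Groth.Agent.PDual19.CMDim
import Groth.Agent.PDual19.ExtHH
import Groth.Agent.VarGal.SmoothReg
import Groth.Agent.Serre71.Finite
import Groth.Agent.AbSch7.FieldH0
import Groth.Agent.NeronHD28.SmoothReg
import Groth.Agent.Lift3.SmallExt

/-!
# Serre duality on smooth closed subschemes of projective space
-/

universe u

set_option autoImplicit false
set_option backward.isDefEq.respectTransparency.types false
set_option linter.style.haveILetI false

open CategoryTheory Limits AlgebraicGeometry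

noncomputable section

namespace Groth.Agent.PDual19.SmoothDual

variable (k : Type u) [Field k] (n N : ℕ) (X : Scheme.{u}) [X.Over (Spec (CommRingCat.of k))]
  [SmoothOfRelativeDimension n (X ↘ Spec (CommRingCat.of k))]

omit [SmoothOfRelativeDimension n (X ↘ Spec (CommRingCat.of k))] in
theorem isProper_sub (ι : X ⟶ CohB1.ProjSpace N k) [IsClosedImmersion ι]
    (hι : ι ≫ CohB1.ProjSpace.toSpec N k = X ↘ Spec (CommRingCat.of k)) :
    IsProper (X ↘ Spec (CommRingCat.of k)) := by
  haveI := Serre71.isProper_projSpace N k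
  rw [← hι]
  infer_instance

variable (ι : X ⟶ CohB1.ProjSpace N k) [IsClosedImmersion ι]
  (hι : ι ≫ CohB1.ProjSpace.toSpec N k = X ↘ Spec (CommRingCat.of k))
  (L : X.Modules) (hL : ExtPow.IsExtPow n (Omega.sheaf (X ↘ Spec (CommRingCat.of k))) L)
include hι hL

theorem isInvertible_omega : PicF.IsInvertible L := by
  haveI := isProper_sub k N X ι hι
  haveI : (Omega.sheaf (X ↘ Spec (CommRingCat.of k))).IsQuasicoherent := Omega57.isQuasicoherent_omega _
  exact CAlg8.Canon.isInvertible_extPow (Om3.TopForms.isFinLocFreeOfRank_omega (X ↘ Spec (CommRingCat.of k)) n) hL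

theorem isCoh_omega : Coh.IsCoh L := by
  haveI := LGlob19.isLocallyNoetherian_sub k N ι
  exact Amp73.isCoh_of_isInvertible (isInvertible_omega k n N X ι hι L hL)

omit hL in
theorem depth_stalk (z : X) (hz : IsClosed ({z} : Set X)) :
    (n : ℕ∞) ≤ LocCoh.depth (X.presheaf.stalk z) (X.presheaf.stalk z) := by
  haveI := isProper_sub k N X ι hι
  haveI := SmoothOfRelativeDimension.smooth n (X ↘ Spec (CommRingCat.of k))
  have heq : ∀ Z : Set ↥X, Z ∈ irreducibleComponents ↥X → topologicalKrullDim ↥Z = (n : WithBot ℕ∞) :=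
    fun Z hZ => Var76.SmoothFibre.dim_component (X ↘ Spec (CommRingCat.of k)) n Z hZ
  have hdim : topologicalKrullDim ↥X = (n : WithBot ℕ∞) := by
    refine le_antisymm (topologicalKrullDim_le_of_components _ fun Z hZ => (heq Z hZ).le) ?_
    obtain ⟨Z, hZ, -⟩ : ∃ Z ∈ irreducibleComponents ↥X, z ∈ Z :=
      ⟨_, irreducibleComponent_mem_irreducibleComponents z, mem_irreducibleComponent⟩
    rw [← heq Z hZ]
    exact topologicalKrullDim_subspace_le X Z
  haveI := VarGal.isRegularLocalRing_stalk_of_smooth (X ↘ Spec (CommRingCat.of k)) z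
  haveI := Gor18.regular_gor (X.presheaf.stalk z)
  rw [depth_eq_of_cm n (Gor18.gor_cm _) (dim_stalk_of_equidim (X ↘ Spec (CommRingCat.of k)) n hdim heq hz)]

/-- Duality in all degrees. -/
theorem nonempty_ext_equiv [HasExt.{u} X.Modules] (F : X.Modules) (hF : Coh.IsCoh F) (i : ℕ) (hi : i ≤ n) :
    Nonempty (Abelian.Ext F L i ≃ₗ[k] Module.Dual k (Coh.HH X F (n - i))) := by
  haveI := LGlob19.isLocallyNoetherian_sub k N ι
  obtain ⟨t, ht⟩ := Groth.Agent.S11924.result k N n X ι hι L hL
  exact (dualityX k n L t ht (enoughTop_of_depth k N ι n (isCoh_omega k n N X ι hι L hL)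
    (depth_stalk k n N X ι hι)) i F hF).1 (n - i) (Nat.add_sub_cancel' hi)

/-- Duality for locally free sheaves. -/
theorem nonempty_dual_equiv (F : X.Modules) (hF : FlatMod.IsFinLocFree F) (p : ℕ) (hp : p ≤ n) :
    Nonempty (Module.Dual k (Coh.HH X F p) ≃ₗ[k] Coh.HH X (QC70.homMod F L) (n - p)) := by
  haveI := LGlob19.isLocallyNoetherian_sub k N ι
  haveI : EnoughInjectives X.Modules := inferInstance
  haveI : HasExt.{u} X.Modules := hasExt_of_enoughInjectives _
  obtain ⟨a⟩ := nonempty_ext_equiv k n N X ι hι L hL F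
    ⟨Props58.LocFree.isQuasicoherent_of_isFinLocFree hF, Props58.LocFree.isFiniteType_of_isFinLocFree hF⟩
    (n - p) (Nat.sub_le n p)
  obtain ⟨b⟩ := nonempty_ext_linearEquiv_HH k hF L (n - p)
  rw [Nat.sub_sub_self hp] at a
  exact ⟨a.symm.trans b⟩

omit hL in
theorem finite_hh (F : X.Modules) (hF : Coh.IsCoh F) (p : ℕ) : Module.Finite k (Coh.HH X F p) := by
  haveI := isProper_sub k N X ι hι
  exact Serre71.finite_hh_of_isProper k F hF p

include n in
omit hL in
theorem finrank_hh_zero [IsAlgClosed k] [ConnectedSpace X] :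
    Module.finrank k (Coh.HH X (Coh.structureModule X) 0) = 1 := by
  haveI := isProper_sub k N X ι hι
  haveI := SmoothOfRelativeDimension.smooth n (X ↘ Spec (CommRingCat.of k))
  haveI : IsReduced X := NeronHD28.isReduced_of_smooth (X ↘ Spec (CommRingCat.of k))
  have hbij : Function.Bijective (Coh.toGlobal (X ↘ Spec (CommRingCat.of k))) :=
    (AbSch7.appTop_bijective_of_isAlgClosed (X ↘ Spec (CommRingCat.of k))).comp
      (ConcreteCategory.bijective_of_isIso (Scheme.ΓSpecIso (CommRingCat.of k)).inv)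
  let x₁ : Coh.HH X (Coh.structureModule X) 0 :=
    (Crv77.sec (Coh.structureModule X)).symm (1 : Γ(X, ⊤))
  let φ : k →ₗ[k] Coh.HH X (Coh.structureModule X) 0 := LinearMap.toSpanSingleton k _ x₁
  have hφ : ∀ a, Crv77.sec (Coh.structureModule X) (φ a) = Coh.toGlobal (X ↘ Spec (CommRingCat.of k)) a := by
    intro a
    show Crv77.sec _ (a • x₁) = _
    rw [Crv77.sec_smul, AddEquiv.apply_symm_apply]
    exact mul_one (M := Γ(X, ⊤)) _
  have hφb : Function.Bijective φ := by
    refine ⟨fun a b hab => hbij.1 ?_, fun z => ?_⟩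
    · have := congrArg (Crv77.sec (Coh.structureModule X)) hab
      rwa [hφ, hφ] at this
    · obtain ⟨a, ha⟩ := hbij.2 (Crv77.sec (Coh.structureModule X) z)
      exact ⟨a, (Crv77.sec (Coh.structureModule X)).injective ((hφ a).trans ha)⟩
  rw [← (LinearEquiv.ofBijective φ hφb).finrank_eq, Module.finrank_self]

theorem finrank_top [IsAlgClosed k] [ConnectedSpace X] : Module.finrank k (Coh.HH X L n) = 1 := by
  have hinv := isInvertible_omega k n N X ι hι L hL
  have hLf : FlatMod.IsFinLocFree L := Lift3.SmallExt.isFinLocFree_of_isInvertible hinv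
  obtain ⟨a⟩ := nonempty_dual_equiv k n N X ι hι L hL L hLf n le_rfl
  obtain ⟨e⟩ := Cyc90.Dev.nonempty_tensor_dual hinv
  obtain ⟨b⟩ := nonempty_homMod_iso e L
  let c₁ : CohB1.tensorMod (QC70.dualMod L) L ≅ CohB1.tensorMod L (QC70.dualMod L) :=
    (Mod48.tensSymm (O := X.sheaf) (QC70.dualMod L)).app L
  let c : QC70.homMod L L ≅ Coh.structureModule X := b ≪≫ c₁ ≪≫ e
  have h1 := (a.trans (Crv77.hEquiv k c (n - n))).finrank_eq
  haveI := finite_hh k N X ι hι L (isCoh_omega k n N X ι hι L hL) n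
  rw [Subspace.dual_finrank_eq] at h1
  rw [h1, Nat.sub_self]
  exact finrank_hh_zero k n N X ι hι

end Groth.Agent.PDual19.SmoothDual
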