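import Groth.Agent.S2928
import Groth.Agent.LGlob19.Proj
import Groth.Agent.LC17.Transfer
import Groth.Agent.S2854

/-!
# `H^j(X, G(-m)) = 0` for `m ≫ 0` and depth, on closed subschemes of projective space
-/

universe u

open CategoryTheory Limits AlgebraicGeometry Opposite

set_option autoImplicit false
set_option maxSynthPendingDepth 6
set_option maxHeartbeats 1000000
set_option synthInstance.maxHeartbeats 800000
set_option backward.isDefEq.respectTransparency.types false

noncomputable section

namespace Groth.Agent.PDual19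

open QC70

theorem depth_pushforward_stalk {Z X : Scheme.{u}} (i : Z ⟶ X) [IsClosedImmersion i] [IsLocallyNoetherian X]
    (G : Z.Modules) (hG : Coh.IsCoh G) (z : Z) :
    LocCoh.depth (X.presheaf.stalk (i z)) (((Scheme.Modules.pushforward i).obj G).presheaf.stalk (i z)) =
      LocCoh.depth (Z.presheaf.stalk z) (G.presheaf.stalk z) := by
  haveI := LocallyOfFiniteType.isLocallyNoetherian i
  haveI := hG.1
  haveI := hG.2
  letI : Algebra (X.presheaf.stalk (i z)) (Z.presheaf.stalk z) := (i.stalkMap z).hom.toAlgebra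
  have hs : Function.Surjective (algebraMap (X.presheaf.stalk (i z)) (Z.presheaf.stalk z)) :=
    i.stalkMap_surjective z
  letI : Module (X.presheaf.stalk (i z)) (G.presheaf.stalk z) :=
    Module.compHom _ (algebraMap (X.presheaf.stalk (i z)) (Z.presheaf.stalk z))
  haveI : IsScalarTower (X.presheaf.stalk (i z)) (Z.presheaf.stalk z) (G.presheaf.stalk z) :=
    IsScalarTower.of_algebraMap_smul fun _ _ => rfl
  let e : ((Scheme.Modules.pushforward i).obj G).presheaf.stalk (i z) ≃ₗ[X.presheaf.stalk (i z)]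
      G.presheaf.stalk z :=
    { AddEquiv.ofBijective _ (bijective_pushStalk i G z) with
      map_smul' := fun r x => pushStalk_smul i G z r x }
  haveI : Module.Finite (Z.presheaf.stalk z) (G.presheaf.stalk z) := finite_stalk G z
  haveI : Module.Finite (X.presheaf.stalk (i z)) (G.presheaf.stalk z) := by
    haveI : Module.Finite (X.presheaf.stalk (i z)) (Z.presheaf.stalk z) :=
      Module.Finite.of_surjective (Algebra.linearMap _ _) hs
    exact Module.Finite.trans (Z.presheaf.stalk z) _
  unfold LocCoh.depth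
  rw [S2854.idealDepth_congr' e, LC17.idealDepth_map_algebra (B := Z.presheaf.stalk z),
    IsLocalRing.map_maximalIdeal_of_surjective (algebraMap (X.presheaf.stalk (i z)) (Z.presheaf.stalk z)) hs]

variable (k : Type u) [Field k] (N : ℕ) {X : Scheme.{u}} (ι : X ⟶ CohB1.ProjSpace N k) [IsClosedImmersion ι]

theorem nonempty_hh_twist_push (G : X.Modules) (hG : Coh.IsCoh G) (m : ℤ) (j : ℕ) :
    Nonempty (Coh.HH (CohB1.ProjSpace N k) (Var76.Reg.tw N k ((Scheme.Modules.pushforward ι).obj G) m) j ≃
      Coh.HH X (CohB1.tensorMod G (LGlob19.OX k N ι m)) j) := by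
  haveI := hG.1
  have hL := Var76.Reg.isInvertible_twist (n := N) (A := k) m
  haveI : (CohB1.tensorMod G (LGlob19.OX k N ι m)).IsQuasicoherent :=
    Amp73.isQCoh_tensorMod hG.1 (Mero90.isQCoh_of_isInvertible (Amp73.isInvertible_pullback ι hL))
  obtain ⟨e⟩ := Coh69.nonempty_hh_push ι (CohB1.tensorMod G (LGlob19.OX k N ι m)) j
  exact ⟨(Crv77.hEquiv k (X := CohB1.ProjSpace N k) (ValVan29.projIso ι G _ hL) j).toEquiv.trans e.toEquiv.symm⟩

theorem exists_vanishX_iff {G : X.Modules} (hG : Coh.IsCoh G) (n : ℕ) :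
    (∃ m₀ : ℤ, ∀ m : ℤ, m₀ ≤ m → ∀ j : ℕ, j < n →
        Subsingleton (Coh.HH X (CohB1.tensorMod G (LGlob19.OX k N ι (-m))) j)) ↔
      ∀ z : X, IsClosed ({z} : Set X) → (n : ℕ∞) ≤ LocCoh.depth (X.presheaf.stalk z) (G.presheaf.stalk z) := by
  rcases n with _ | n
  · exact iff_of_true ⟨0, fun m _ j hj => absurd hj (Nat.not_lt_zero j)⟩ fun z _ => by simp
  haveI := Serre71.isProper_projSpace N k
  haveI : IsLocallyNoetherian (CohB1.ProjSpace N k) :=
    LocallyOfFiniteType.isLocallyNoetherian (CohB1.ProjSpace.toSpec N k)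
  have hP : Coh.IsCoh ((Scheme.Modules.pushforward ι).obj G) := by
    haveI := hG.1
    haveI := hG.2
    exact QC70.isCoh_pushforward ι G hG
  have h2928 := S2928.result k N ((Scheme.Modules.pushforward ι).obj G) hP n
  have hlt : ∀ d : ℕ∞, ((n + 1 : ℕ) : ℕ∞) ≤ d ↔ (n : ℕ∞) < d := fun d => by
    rw [Nat.cast_add, Nat.cast_one]
    exact Order.add_one_le_iff_of_not_isMax (not_isMax_iff_ne_top.2 (ENat.natCast_ne_top n))
  have hL : (∃ m₀ : ℤ, ∀ m : ℤ, m₀ ≤ m → ∀ j : ℕ, j < n + 1 →
        Subsingleton (Coh.HH X (CohB1.tensorMod G (LGlob19.OX k N ι (-m))) j)) ↔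
      ∀ x : CohB1.ProjSpace N k, IsClosed ({x} : Set (CohB1.ProjSpace N k)) →
        (n : ℕ∞) < LocCoh.depth ((CohB1.ProjSpace N k).presheaf.stalk x)
          (((Scheme.Modules.pushforward ι).obj G).presheaf.stalk x) := by
    refine Iff.trans ?_ h2928
    refine exists_congr fun m₀ => forall₂_congr fun m _ => forall_congr' fun j => ?_
    rw [Nat.lt_succ_iff]
    refine imp_congr_right fun _ => ?_
    obtain ⟨e⟩ := nonempty_hh_twist_push k N ι G hG (-m) j
    exact e.symm.subsingleton_congr
  refine hL.trans ⟨fun h z hz => ?_, fun h x hx => ?_⟩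
  · rw [← depth_pushforward_stalk ι G hG z, hlt]
    refine h (ι z) ?_
    rw [← Set.image_singleton]
    exact ι.isClosedEmbedding.isClosedMap _ hz
  · by_cases hxr : x ∈ Set.range ι
    · obtain ⟨z, rfl⟩ := hxr
      rw [depth_pushforward_stalk ι G hG z, ← hlt]
      refine h z ?_
      rw [← ι.isClosedEmbedding.injective.preimage_image {z}, Set.image_singleton]
      exact hx.preimage ι.continuous
    · haveI : Subsingleton (((Scheme.Modules.pushforward ι).obj G).presheaf.stalk x) := by
        haveI := hG.2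
        exact QC70.notMem_support_iff.mp fun hmem => hxr (QC70.support_pushforward_subset ι G hmem)
      rw [EGA4Alg4.depth_of_subsingleton]
      exact ENat.natCast_lt_top n

end Groth.Agent.PDual19
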