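import Mathlib.LinearAlgebra.ExteriorPower.Basis
import Groth.Agent.KRR40.ExtFiltAlg

/-!
# The wedge pairing of complementary exterior powers of a free module is perfect
-/

set_option autoImplicit false

noncomputable section

universe u

open exteriorPower Set.powersetCard
open Groth.Agent.KRR40.ExtFiltAlg (wedge wedge_ιMulti)

namespace Groth.Agent.PDual19.WedgePerfect

variable {R : Type u} [CommRing R] {M : Type u} [AddCommGroup M] [Module R M] {a c n : ℕ}

theorem isUnit_repr (b : Module.Basis (Fin n) R M) (h : a + c = n) (s : Set.powersetCard (Fin n) a)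
    (t : Set.powersetCard (Fin n) c) (hst : ∀ i, i ∈ s ↔ i ∉ t) :
    ∃ ε : Rˣ, wedge a c n h (ιMulti_family R a b s) (ιMulti_family R c b t) = (ε : R) • ιMulti R n b := by
  subst h
  let f : Fin (a + c) → Fin (a + c) := Fin.append (ofFinEmbEquiv.symm s) (ofFinEmbEquiv.symm t)
  have hf : Function.Surjective f := fun i => by
    by_cases hi : i ∈ t
    · obtain ⟨j, hj⟩ := (mem_range_ofFinEmbEquiv_symm_iff_mem t i).mpr hi
      exact ⟨Fin.natAdd a j, by simp [f, hj]⟩
    · obtain ⟨j, hj⟩ := (mem_range_ofFinEmbEquiv_symm_iff_mem s i).mpr ((hst i).2 hi)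
      exact ⟨Fin.castAdd c j, by simp [f, hj]⟩
  let σ : Equiv.Perm (Fin (a + c)) := Equiv.ofBijective f ⟨Finite.injective_iff_surjective.2 hf, hf⟩
  refine ⟨Units.map (Int.castRingHom R).toMonoidHom (Equiv.Perm.sign σ), ?_⟩
  have hg : Fin.append (⇑b ∘ ⇑(ofFinEmbEquiv.symm s)) (⇑b ∘ ⇑(ofFinEmbEquiv.symm t)) ∘
      Fin.cast (rfl : a + c = a + c).symm = ⇑b ∘ ⇑σ := funext fun i => by
    refine Fin.addCases (fun j => ?_) (fun j => ?_) i <;> simp [σ, f]
  rw [ιMulti_family, ιMulti_family, wedge_ιMulti, hg, AlternatingMap.map_perm]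
  rw [Units.smul_def, ← Int.cast_smul_eq_zsmul R]
  rfl

theorem wedge_family_eq_zero (b : Module.Basis (Fin n) R M) (h : a + c = n) (s : Set.powersetCard (Fin n) a)
    (t : Set.powersetCard (Fin n) c) (i : Fin n) (his : i ∈ s) (hit : i ∈ t) :
    wedge a c n h (ιMulti_family R a b s) (ιMulti_family R c b t) = 0 := by
  subst h
  rw [ιMulti_family, ιMulti_family, wedge_ιMulti]
  obtain ⟨j, hj⟩ := (mem_range_ofFinEmbEquiv_symm_iff_mem s i).mpr his
  obtain ⟨l, hl⟩ := (mem_range_ofFinEmbEquiv_symm_iff_mem t i).mpr hit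
  refine AlternatingMap.map_eq_zero_of_eq _ _ (i := Fin.castAdd c j) (j := Fin.natAdd a l) (by simp [hj, hl]) ?_
  intro e
  have := congrArg Fin.val e
  simp at this
  omega

theorem bijective_smul_top' (b : Module.Basis (Fin n) R M) :
    Function.Bijective (fun r : R => r • ιMulti R n b) := by
  classical
  let s₀ : Set.powersetCard (Fin n) n := ⟨Finset.univ, by simp [Set.powersetCard.mem_iff]⟩
  haveI : Subsingleton (Set.powersetCard (Fin n) n) := ⟨fun s t => Subtype.ext (by
    rw [Finset.eq_univ_of_card s.1 (by rw [Fintype.card_fin]; exact s.2),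
      Finset.eq_univ_of_card t.1 (by rw [Fintype.card_fin]; exact t.2)])⟩
  have hid : ιMulti_family R n b s₀ = ιMulti R n b := congrArg (ιMulti R n) (funext fun i => congrArg b (by
    have := Finset.orderEmbOfFin_unique s₀.2 (f := id) (fun _ => Finset.mem_univ _) strictMono_id
    exact (congrFun this i).symm))
  have hB : (b.exteriorPower n) s₀ = ιMulti R n b := (basis_apply R n b s₀).trans hid
  refine ⟨fun r r' e => ?_, fun x => ⟨(b.exteriorPower n).repr x s₀, ?_⟩⟩
  · have := congrArg (fun z => (b.exteriorPower n).repr z s₀) (hB ▸ e)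
    simpa using this
  · show _ • ιMulti R n b = x
    rw [← hB]
    conv_rhs => rw [← (b.exteriorPower n).sum_repr x]
    exact (Fintype.sum_eq_single (f := fun i => (b.exteriorPower n).repr x i • (b.exteriorPower n) i) s₀
      (fun t hne => absurd (Subsingleton.elim t s₀) hne)).symm

/-- `⋀^c M → Hom(⋀^a M, ⋀^n M)` is bijective when `a + c = n` is the rank. -/
theorem bijective_flip (b : Module.Basis (Fin n) R M) (h : a + c = n) :
    Function.Bijective (wedge (R := R) (E := M) a c n h).flip := by
  classical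
  have hc : a + c = Fintype.card (Fin n) := by rw [Fintype.card_fin, h]
  let e : Set.powersetCard (Fin n) c ≃ Set.powersetCard (Fin n) a := compl hc
  choose ε hε using fun t : Set.powersetCard (Fin n) c => isUnit_repr b h (e t) t fun i => mem_compl
  have hz : ∀ (s : Set.powersetCard (Fin n) a) (t : Set.powersetCard (Fin n) c), s ≠ e t →
      wedge a c n h (ιMulti_family R a b s) (ιMulti_family R c b t) = 0 := fun s t hne => by
    obtain ⟨i, his, hit⟩ := (exists_mem_notMem_iff_ne s (e t)).mp hne
    exact wedge_family_eq_zero b h s t i his (by simpa [e] using hit)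
  obtain ⟨hb1, hb2⟩ := bijective_smul_top' b
  have key : ∀ (x : ↥(⋀[R]^c M)) (t : Set.powersetCard (Fin n) c),
      (wedge a c n h).flip x (ιMulti_family R a b (e t)) =
        ((b.exteriorPower c).repr x t * (ε t : R)) • ιMulti R n b := fun x t => by
    conv_lhs => rw [← (b.exteriorPower c).sum_repr x]
    rw [map_sum, LinearMap.sum_apply, Finset.sum_eq_single t]
    · rw [map_smul, LinearMap.smul_apply, LinearMap.flip_apply, coe_basis, hε, smul_smul]
    · intro t' _ hne
      rw [map_smul, LinearMap.smul_apply, LinearMap.flip_apply, coe_basis,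
        hz _ _ (fun e' => hne (e.injective e').symm), smul_zero]
    · simp
  refine ⟨(injective_iff_map_eq_zero _).2 fun x hx => ?_, fun φ => ?_⟩
  · refine (b.exteriorPower c).repr.injective (Finsupp.ext fun t => ?_)
    have h1 := key x t
    rw [hx, LinearMap.zero_apply] at h1
    have h2 : (0 : R) = (b.exteriorPower c).repr x t * (ε t : R) := hb1 (by simpa using h1)
    simpa using (Units.mul_left_eq_zero (ε t)).1 h2.symm
  · choose r hr using fun t => hb2 (φ (ιMulti_family R a b (e t)))
    refine ⟨∑ t, (r t * ((ε t)⁻¹ : Rˣ)) • ιMulti_family R c b t, (b.exteriorPower a).ext fun s => ?_⟩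
    obtain ⟨t, rfl⟩ := e.surjective s
    rw [coe_basis, key]
    refine Eq.trans ?_ (hr t)
    refine congrArg (· • ιMulti R n b) ?_
    rw [← coe_basis, Module.Basis.repr_sum_self]
    rw [mul_assoc, Units.inv_mul, mul_one]

end Groth.Agent.PDual19.WedgePerfect
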